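import Cfsg.Agent.Lib.Block.RankTwo

/-!
# The trace of the contributions of a subsection and the bound by the rank of its block

The scaled contributions of the members of a block along a major subsection are positive algebraic
integers, all of whose conjugates are positive, and they add up to at most `l(b) p ^ d`.
-/

namespace Cfsg.Agent.Lib.Block

open Cfsg Cfsg.Agent.Lib.CharCyclo
open scoped ComplexConjugate

set_option linter.unusedSectionVars false
set_option linter.style.haveILetI false

universe u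

variable {p : ℕ} {M : Ideal AlgInt} [M.IsPrime] {G : Type u} [Group G] [Finite G] {x : G}
  [Fintype (Subgroup.centralizer ({x} : Set G))]
  {b : Set (IrrCharacter (Subgroup.centralizer ({x} : Set G)))} {B : Set (IrrCharacter G)} {d : ℕ}

/-- The scaled contributions of a subsection add up to the rank of its block times `p ^ d`. -/
theorem sum_contrib (hM : IsPModular p M) (hx : IsPElem p x) (hb : IsPBlock M b)
    (hd : blockDefect p b = d) :
    ∑ χ : IrrCharacter G, (p : ℂ) ^ d *
        classInner (sectionMap p x b (χ : G → ℂ)) (sectionMap p x b (χ : G → ℂ)) =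
      (blockRank p b : ℂ) * (p : ℂ) ^ d := by
  obtain ⟨k, ζ, n, Q, C, -, -, hgram, hform, hQC, hsym, -, -, -⟩ := exists_sectionData hM hx hb hd
  simp only [hform]
  rw [Finset.sum_comm]
  simp only [Finset.sum_comm (γ := IrrCharacter G), mul_comm (n _ _) ((Q _ _ : ℤ) : ℂ), mul_assoc,
    ← Finset.mul_sum, hgram]
  have h := congrArg Matrix.trace hQC
  rw [Matrix.trace_smul, Matrix.trace_one, Fintype.card_fin, Matrix.trace] at h
  simp only [Matrix.diag_apply, Matrix.mul_apply, smul_eq_mul] at h
  have h' := congrArg (Int.cast : ℤ → ℂ) h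
  push_cast at h'
  rw [mul_comm, ← h']
  refine Finset.sum_congr rfl fun i _ => Finset.sum_congr rfl fun j _ => ?_
  congr 2
  exact (congrFun (congrFun hsym i) j).symm

/-- The contribution of a member of the induced block to a major subsection is not zero. -/
theorem sectionMap_ne_zero (hM : IsPModular p M) (hx : IsPElem p x)
    (hind : IsInducedBlock M (Subgroup.centralizer ({x} : Set G)) b B)
    (hd : blockDefect p b = d) (hBd : blockDefect p B = d) {χ : IrrCharacter G} (hχ : χ ∈ B) :
    sectionMap p x b (χ : G → ℂ) ≠ 0 := by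
  intro h
  obtain ⟨ψ, hψ, hψ0⟩ := exists_height_zero hind.2.1 p
  obtain ⟨v, hv, hv0, he⟩ := exists_contrib_unit hM hx hind hd hBd hχ hψ hψ0
  rw [h, Char.classInner_zero_left, mul_zero] at he
  rcases mul_eq_zero.1 he.symm with h1 | h1
  · rw [degUnit, div_eq_zero_iff] at h1
    rcases h1 with h1 | h1
    · exact mul_ne_zero (pow_ne_zero _ hM.1.ne_zero) (charDegree_pos χ).ne' (Nat.cast_eq_zero.1 h1)
    · exact Nat.card_pos.ne' (Nat.cast_eq_zero.1 h1)
  · exact hv0 (by rw [h1, redC_zero])

open scoped Classical in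
/-- A block has at most `l(b) p ^ d` members for a major subsection with block `b`. -/
theorem card_le_pow_mul_blockRank (hM : IsPModular p M) (hx : IsPElem p x)
    (hind : IsInducedBlock M (Subgroup.centralizer ({x} : Set G)) b B)
    (hd : blockDefect p b = d) (hBd : blockDefect p B = d) :
    Nat.card B ≤ p ^ d * blockRank p b := by
  haveI : Fact p.Prime := ⟨hM.1⟩
  obtain ⟨k, ζ, n, Q, C, hζ, hmem, hgram, hform, hQC, hsym, hdiag, -, -⟩ :=
    exists_sectionData hM hx hind.1 hd
  set N := p * p ^ k with hN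
  have hN0 : 0 < N := Nat.mul_pos hM.1.pos (pow_pos hM.1.pos k)
  let form : (Fin (blockRank p b) → ℂ) → ℂ := fun v => ∑ i, ∑ j, v i * (Q i j : ℂ) * conj (v j)
  set a : IrrCharacter G → ℂ := fun χ => form (n χ) with ha
  -- the form is positive
  have hp0 : (p : ℂ) ^ d ≠ 0 := pow_ne_zero _ (Nat.cast_ne_zero.2 hM.1.ne_zero)
  have hpsd : ∀ v, ((p : ℂ) ^ d) * form v =
      ((∑ χ : IrrCharacter G, Complex.normSq (∑ i, ∑ j, v i * (Q i j : ℂ) * n χ j) : ℝ) : ℂ) := by
    intro v
    have hrow : ∀ i s, ∑ j, (Q i j : ℂ) * (C j s : ℂ) = if i = s then (p : ℂ) ^ d else 0 := by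
      intro i s
      have h := congrArg (Int.cast : ℤ → ℂ) (congrFun (congrFun hQC i) s)
      simpa [Matrix.mul_apply, Matrix.one_apply] using h
    have hQsym : ∀ i t, Q t i = Q i t := by
      intro i t
      have h2 : C * Q.transpose = (p : ℤ) ^ d • 1 := by
        have h := congrArg Matrix.transpose hQC
        rwa [Matrix.transpose_mul, hsym, Matrix.transpose_smul, Matrix.transpose_one] at h
      have h3 := congrArg (· * Q.transpose) hQC
      simp only [mul_assoc, h2, mul_smul_comm, mul_one, smul_mul_assoc, one_mul] at h3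
      exact (congrFun (congrFun (smul_right_injective _ (pow_ne_zero _
        (Int.natCast_ne_zero.2 hM.1.ne_zero)) h3) i) t).symm
    set u : Fin (blockRank p b) → ℂ := fun j => ∑ i, v i * (Q i j : ℂ) with hu
    have hw : ∀ χ : IrrCharacter G, ∑ i, ∑ j, v i * (Q i j : ℂ) * n χ j = ∑ j, u j * n χ j := by
      intro χ
      rw [Finset.sum_comm]
      simp only [hu, Finset.sum_mul]
    simp only [hw, Complex.ofReal_sum, ← Complex.mul_conj, map_sum, map_mul, Finset.sum_mul_sum]
    rw [Finset.sum_comm]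
    calc (p : ℂ) ^ d * form v
        = ∑ s, conj (u s) * ((p : ℂ) ^ d * v s) := by
          simp only [form, hu, map_sum, map_mul, map_intCast, Finset.sum_mul, Finset.mul_sum]
          exact Finset.sum_congr rfl fun s _ => Finset.sum_congr rfl fun i _ => by
            rw [hQsym s i]; ring
      _ = ∑ s, ∑ j, u j * conj (u s) * (C j s : ℂ) := by
          refine Finset.sum_congr rfl fun s _ => ?_
          calc conj (u s) * ((p : ℂ) ^ d * v s)
              = conj (u s) * ∑ i, v i * ∑ j, (Q i j : ℂ) * (C j s : ℂ) := by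
                simp only [hrow, mul_ite, mul_zero, Finset.sum_ite_eq', Finset.mem_univ, if_true]
                ring
            _ = _ := by
                simp only [hu, Finset.mul_sum, Finset.sum_mul]
                rw [Finset.sum_comm]
                exact Finset.sum_congr rfl fun j _ => Finset.sum_congr rfl fun i _ => by ring
      _ = _ := by
          rw [Finset.sum_comm]
          refine Finset.sum_congr rfl fun j _ => ?_
          rw [Finset.sum_comm]
          refine Finset.sum_congr rfl fun s _ => ?_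
          rw [← hgram, Finset.mul_sum]
          exact Finset.sum_congr rfl fun χ _ => by ring
  have hre : ∀ v, form v = ((form v).re : ℂ) ∧ 0 ≤ (form v).re := by
    intro v
    have h : form v = (((∑ χ : IrrCharacter G,
        Complex.normSq (∑ i, ∑ j, v i * (Q i j : ℂ) * n χ j)) / (p : ℝ) ^ d : ℝ) : ℂ) := by
      rw [Complex.ofReal_div, ← hpsd v, Complex.ofReal_pow, Complex.ofReal_natCast,
        mul_div_cancel_left₀ _ hp0]
    refine ⟨by rw [h]; rfl, ?_⟩
    rw [h, Complex.ofReal_re]
    exact div_nonneg (Finset.sum_nonneg fun χ _ => Complex.normSq_nonneg _) (by positivity)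
  -- the conjugations
  let J := (Finset.range N).filter fun j => j.Coprime N
  have hex : ∀ j, ∃ σ : ℂ ≃+* ℂ, j.Coprime N → ∀ μ : ℂ, μ ^ N = 1 → σ μ = μ ^ j := by
    intro j
    by_cases hj : j.Coprime N
    · obtain ⟨σ, hσ⟩ := CharGalois.exists_aut_pow hN0 hj
      exact ⟨σ, fun _ => hσ⟩
    · exact ⟨RingEquiv.refl ℂ, fun h => absurd h hj⟩
  choose σ hσ using hex
  let S : Subring ℂ := Subring.closure {ζ}
  have hζS : ζ ∈ S := Subring.subset_closure rfl
  have hnS : ∀ χ i, n χ i ∈ S ∧ conj (n χ i) ∈ S := by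
    intro χ i
    have hy := hmem χ i
    generalize n χ i = y at hy
    induction hy using Submodule.span_induction with
    | mem y hy =>
      obtain ⟨e, rfl⟩ := hy
      refine ⟨pow_mem hζS e, ?_⟩
      rw [map_pow, CharCyclo.conj_root hN0.ne' hζ.pow_eq_one, show ζ⁻¹ = ζ ^ (N - 1) by
        rw [inv_eq_one_div, div_eq_iff (hζ.ne_zero hN0.ne'), ← pow_succ, Nat.sub_add_cancel hN0,
          hζ.pow_eq_one]]
      exact pow_mem (pow_mem hζS _) e
    | zero => simp [S.zero_mem]
    | add y z _ _ h h' => exact ⟨add_mem h.1 h'.1, by rw [map_add]; exact add_mem h.2 h'.2⟩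
    | smul t y _ h => exact ⟨zsmul_mem h.1 t, by rw [map_zsmul]; exact zsmul_mem h.2 t⟩
  have haS : ∀ χ, a χ ∈ S := fun χ => sum_mem fun i _ => sum_mem fun j _ =>
    mul_mem (mul_mem (hnS χ i).1 (intCast_mem S _)) (hnS χ j).2
  have hagree : ∀ (f g : ℂ →+* ℂ), f ζ = g ζ → ∀ y ∈ S, f y = g y := fun f g h y hy =>
    (Subring.closure_le (t := RingHom.eqLocus f g)).2 (by simpa using h) hy
  have hconj : ∀ j, j.Coprime N → ∀ y ∈ S, σ j (conj y) = conj (σ j y) := fun j hj y hy =>
    hagree ((σ j : ℂ →+* ℂ).comp (starRingEnd ℂ)) ((starRingEnd ℂ).comp (σ j : ℂ →+* ℂ)) (by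
      show σ j (conj ζ) = conj (σ j ζ)
      rw [CharCyclo.conj_root hN0.ne' hζ.pow_eq_one, map_inv₀, hσ j hj ζ hζ.pow_eq_one, map_pow,
        CharCyclo.conj_root hN0.ne' hζ.pow_eq_one, inv_pow]) y hy
  have haσ : ∀ j, j.Coprime N → ∀ χ, σ j (a χ) = form fun i => σ j (n χ i) := by
    intro j hj χ
    simp only [ha, form, map_sum, map_mul, map_intCast]
    exact Finset.sum_congr rfl fun i _ => Finset.sum_congr rfl fun t _ => by
      rw [hconj j hj _ (hnS χ t).1]
  have hreal : ∀ j ∈ J, ∀ χ, σ j (a χ) = ((σ j (a χ)).re : ℂ) ∧ 0 ≤ (σ j (a χ)).re := fun j hj χ => by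
    rw [haσ j (Finset.mem_filter.1 hj).2]
    exact hre _
  have hint : ∀ χ, IsIntegral ℤ (a χ) := fun χ => by
    have hle : S ≤ (integralClosure ℤ ℂ).toSubring := Subring.closure_le.2 (Set.singleton_subset_iff.2
      (IsIntegral.of_pow hN0 (hζ.pow_eq_one ▸ isIntegral_one)))
    exact hle (haS χ)
  -- each member contributes at least one on average
  have hkey : ∀ χ ∈ B, (J.card : ℝ) ≤ ∑ j ∈ J, (σ j (a χ)).re := by
    intro χ hχ
    have ha0 : a χ ≠ 0 := by
      intro h
      have h1 := hform χ χ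
      rw [show (∑ i, ∑ j, n χ i * (Q i j : ℂ) * conj (n χ j)) = 0 from h, mul_eq_zero] at h1
      exact sectionMap_ne_zero hM hx hind hd hBd hχ
        (Char.eq_zero_of_classInner_self _ (h1.resolve_left hp0))
    have hpos : ∀ j ∈ J, 0 < (σ j (a χ)).re := fun j hj => by
      refine lt_of_le_of_ne (hreal j hj χ).2 fun h => ?_
      have := (hreal j hj χ).1
      rw [← h, Complex.ofReal_zero, map_eq_zero] at this
      exact ha0 this
    refine CharGalois.card_le_sum_of_one_le_prod J _ hpos ?_
    obtain ⟨m, hm⟩ := CharGalois.exists_int_of_fixed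
      (IsIntegral.prod _ fun j (_ : j ∈ J) => CharGalois.isIntegral_aut (σ j) (hint χ)) fun τ => by
      obtain ⟨t, ht, hτ⟩ := CharGalois.exists_pow_of_aut hN0 τ
      rw [map_prod]
      have hJ : ∀ j ∈ J, j * t % N ∈ J ∧ τ (σ j (a χ)) = σ (j * t % N) (a χ) := by
        intro j hj
        have hjc := (Finset.mem_filter.1 hj).2
        have hjt : (j * t % N).Coprime N := by
          exact (ZMod.coprime_mod_iff_coprime _ _).2 (Nat.Coprime.mul_left hjc ht)
        refine ⟨Finset.mem_filter.2 ⟨Finset.mem_range.2 (Nat.mod_lt _ hN0), hjt⟩, ?_⟩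
        refine hagree ((τ : ℂ →+* ℂ).comp (σ j : ℂ →+* ℂ)) (σ (j * t % N) : ℂ →+* ℂ) ?_ _ (haS χ)
        show τ (σ j ζ) = σ (j * t % N) ζ
        rw [hσ j hjc ζ hζ.pow_eq_one, hσ _ hjt ζ hζ.pow_eq_one, map_pow, hτ ζ hζ.pow_eq_one,
          ← pow_mul, ← pow_eq_pow_mod _ hζ.pow_eq_one, mul_comm]
      have hinj : Set.InjOn (fun j => j * t % N) J := by
        intro i hi j hj h
        have h' : i % N = j % N := Nat.ModEq.cancel_right_of_coprime (Nat.Coprime.symm ht) h
        rwa [Nat.mod_eq_of_lt (Finset.mem_range.1 (Finset.mem_filter.1 hi).1),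
          Nat.mod_eq_of_lt (Finset.mem_range.1 (Finset.mem_filter.1 hj).1)] at h'
      refine Finset.prod_bij (fun j _ => j * t % N) (fun j hj => (hJ j hj).1)
        (fun i hi j hj h => hinj hi hj h) (fun j hj => ?_) (fun j hj => (hJ j hj).2)
      obtain ⟨i, hi, he⟩ := Finset.surj_on_of_inj_on_of_card_le (s := J) (t := J)
        (fun j _ => j * t % N) (fun j hj => (hJ j hj).1) (fun i j hi hj h => hinj hi hj h) le_rfl j hj
      exact ⟨i, hi, he.symm⟩
    have he : ((∏ j ∈ J, (σ j (a χ)).re : ℝ) : ℂ) = ((m : ℝ) : ℂ) := by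
      rw [Complex.ofReal_prod, Complex.ofReal_intCast, ← hm]
      exact Finset.prod_congr rfl fun j hj => (hreal j hj χ).1.symm
    have he' := Complex.ofReal_injective he
    have hp : (0 : ℝ) < ∏ j ∈ J, (σ j (a χ)).re := Finset.prod_pos hpos
    rw [he'] at hp ⊢
    exact_mod_cast (Int.cast_pos.1 hp : 0 < m)
  have htot : ∀ j, ∑ χ : IrrCharacter G, (σ j (a χ)).re = ((blockRank p b * p ^ d : ℕ) : ℝ) := by
    intro j
    have h := congrArg (σ j) (sum_contrib (G := G) hM hx hind.1 hd)
    rw [map_sum, map_mul, map_pow, map_natCast, map_natCast] at h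
    have h' := congrArg Complex.re h
    rw [Complex.re_sum] at h'
    refine (Finset.sum_congr rfl fun χ _ => ?_).trans (h'.trans ?_)
    · simp only [ha, form, ← hform]
    · rw [← Nat.cast_pow, ← Nat.cast_mul, Complex.natCast_re]
  have hJ1 : J.Nonempty := ⟨1, Finset.mem_filter.2 ⟨Finset.mem_range.2
    (lt_of_lt_of_le hM.1.one_lt (Nat.le_mul_of_pos_right p (pow_pos hM.1.pos k))),
    Nat.coprime_one_left N⟩⟩
  have hsum : (Nat.card B : ℝ) * (J.card : ℝ) ≤ (J.card : ℝ) * ((blockRank p b * p ^ d : ℕ) : ℝ) := by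
    rw [Nat.card_eq_fintype_card, Fintype.card_subtype, ← nsmul_eq_mul, ← Finset.sum_const,
      ← nsmul_eq_mul, ← Finset.sum_const]
    refine (Finset.sum_le_sum fun χ hχ => hkey χ (Finset.mem_filter.1 hχ).2).trans ?_
    rw [Finset.sum_comm]
    refine Finset.sum_le_sum fun j hj => ?_
    rw [← htot j]
    exact Finset.sum_le_sum_of_subset_of_nonneg (Finset.subset_univ _) fun χ _ _ => (hreal j hj χ).2
  rw [mul_comm (J.card : ℝ)] at hsum
  have := le_of_mul_le_mul_right hsum (Nat.cast_pos.2 hJ1.card_pos)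
  rw [mul_comm (p ^ d)]
  exact_mod_cast this

end Cfsg.Agent.Lib.Block
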