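import Cfsg.Agent.Lib.Block.LocalBlocks
import Cfsg.Agent.Lib.Block.CentralCount
import Cfsg.Agent.Lib.Block.HeightZero
import Cfsg.Agent.Lib.Block.Orth
import Cfsg.Agent.Lib.Char.Scalar
import Cfsg.Agent.Lib.Ito

/-!
# Vanishing outside the defect group; defect one for the prime two
-/

namespace Cfsg.Agent.Lib.Block

open Cfsg
open scoped ComplexConjugate

set_option linter.unusedSectionVars false
set_option linter.style.haveILetI false

universe u

variable {p : ℕ} {M : Ideal AlgInt} [M.IsPrime] {G : Type u} [Group G] [Finite G]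

/-- Members vanish where no conjugate of the `p`-part lies in the defect group. -/
theorem char_eq_zero_of_not_conj (hM : IsPModular p M) {B : Set (IrrCharacter G)}
    (hB : IsPBlock M B) {P : Subgroup G} (hP : IsDefectGroup p M B P) {χ : IrrCharacter G}
    (hχ : χ ∈ B) {g z : G} (hgz : IsPPart p g z) (hz : ∀ c : G, c * z * c⁻¹ ∉ P) :
    (χ : G → ℂ) g = 0 := by
  classical
  haveI : Fact p.Prime := ⟨hM.1⟩
  haveI := Fintype.ofFinite G
  obtain ⟨s, hs1, hs2, hs3, hs4⟩ := hgz
  haveI := Fintype.ofFinite (Subgroup.centralizer ({z} : Set G))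
  set y : Subgroup.centralizer ({z} : Set G) :=
    ⟨s, Subgroup.mem_centralizer_singleton_iff.2 hs2.symm.eq⟩ with hy
  have hsum := sum_induced_blockPart hM hs3 B hB χ (y := y) (by rwa [hy, Subgroup.orderOf_mk])
  have hempty : (blocks M (Subgroup.centralizer ({z} : Set G))).filter
      (fun b => IsInducedBlock M (Subgroup.centralizer ({z} : Set G)) b B) = ∅ := by
    refine Finset.filter_eq_empty_iff.2 fun b _ hind => ?_
    obtain ⟨hb, -, -⟩ := id hind
    set Z : Subgroup (Subgroup.centralizer ({z} : Set G)) :=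
      (Subgroup.zpowers z).subgroupOf (Subgroup.centralizer ({z} : Set G)) with hZ
    haveI : Z.Normal := by
      refine ⟨fun n hn c => ?_⟩
      obtain ⟨m, hm⟩ := hn
      simp only [Subgroup.coe_subtype] at hm
      refine ⟨m, ?_⟩
      have hc : Commute (c : G) (z ^ m) :=
        (show Commute (c : G) z from Subgroup.mem_centralizer_singleton_iff.1 c.2).zpow_right m
      simp only [Subgroup.coe_subtype, Subgroup.coe_mul, Subgroup.coe_inv]
      rw [← hm, hc.eq, mul_inv_cancel_right]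
    have hZp : IsPGroup p Z :=
      (IsPElem.isPGroup_zpowers hs3).comap_of_injective _ (Subgroup.subtype_injective _)
    obtain ⟨E, hE⟩ := exists_isDefectGroup hM hb
    have hzE := le_defect_of_normal hM hb hZp hE
      (show (⟨z, Subgroup.mem_centralizer_singleton_iff.2 rfl⟩ :
        Subgroup.centralizer ({z} : Set G)) ∈ Z from Subgroup.mem_zpowers z)
    obtain ⟨E', hE', hle⟩ := exists_defect_ge_of_induced hM hind hE
    obtain ⟨x, hx⟩ := exists_conj_defect hM hB hP hE'
    rw [← hx] at hle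
    obtain ⟨u, hu, hu'⟩ := hle ⟨_, hzE, rfl⟩
    refine hz x⁻¹ ?_
    have : x⁻¹ * z * x⁻¹⁻¹ = u := by
      rw [show z = x * u * x⁻¹ from hu'.symm]; group
    rw [this]
    exact hu
  rw [hempty, Finset.sum_empty, if_pos hχ] at hsum
  rw [← hs1]
  exact hsum.symm

/-- A member vanishing on the `p`-singular elements forces a block of defect zero. -/
theorem blockDefect_eq_zero_of_vanish (hM : IsPModular p M) {B : Set (IrrCharacter G)}
    (hB : IsPBlock M B) {χ : IrrCharacter G} (hχ : χ ∈ B)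
    (hvan : ∀ g : G, p ∣ orderOf g → (χ : G → ℂ) g = 0) : blockDefect p B = 0 := by
  classical
  haveI : Fact p.Prime := ⟨hM.1⟩
  haveI := Fintype.ofFinite G
  obtain ⟨φ, hφ, hh⟩ := exists_height_zero hB p
  have hne := regInner_ne_zero_of_height_zero hM hB hφ hχ hh
  have hreg : regInner p (χ : G → ℂ) (φ : G → ℂ) = classInner (χ : G → ℂ) (φ : G → ℂ) := by
    unfold regInner
    congr 1
    funext x
    split_ifs with hx
    · rw [hvan x hx]
    · rfl
  rw [hreg] at hne
  have hφχ : φ = χ := by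
    by_contra h
    exact hne (Char.classInner_irr_ne χ.2 φ.2 fun e => h (Subtype.ext e).symm)
  subst hφχ
  rw [blockDefect_eq_of_min hφ hh, Nat.sub_eq_zero_iff_le]
  -- restriction to a Sylow subgroup is a multiple of the regular character
  let P : Sylow p G := default
  haveI := Fintype.ofFinite (P : Subgroup G)
  obtain ⟨m, hm⟩ := Char.classInner_natCast (G := (P : Subgroup G))
    (Char.isCharacter_restrict (Char.isCharacter_of_isIrr φ.2) _)
    (Char.isCharacter_of_isIrr Char.isIrrCharacter_one)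
  rw [classInner, Finset.sum_eq_single (1 : (P : Subgroup G))] at hm
  · have hcast : (charDegree (φ : G → ℂ) : ℂ) = ((Nat.card (P : Subgroup G) * m : ℕ) : ℂ) := by
      rw [← irr_one_eq_natCast, Nat.cast_mul, ← hm, ← mul_assoc,
        mul_inv_cancel₀ (Char.card_ne_zero_complex _), one_mul]
      simp
    have hd : charDegree (φ : G → ℂ) = Nat.card (P : Subgroup G) * m := by exact_mod_cast hcast
    refine (hM.1.pow_dvd_iff_le_factorization (charDegree_pos φ).ne').1 ?_
    rw [hd]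
    refine Dvd.intro m ?_
    rw [← P.card_eq_multiplicity]
  · intro u _ hu
    obtain ⟨k, hk⟩ := isPElem_of_mem P.2 u.2
    rw [hvan (u : G) ?_, zero_mul]
    rw [hk]
    exact dvd_pow_self p fun h0 => hu (Subtype.ext (orderOf_eq_one_iff.1 (by rw [hk, h0, pow_zero])))
  · simp

lemma eq_of_induced_of_eq_normalizer (hM : IsPModular p M) {D : Subgroup G} (hD : IsPGroup p D)
    {H : Subgroup G} (hH : H = Subgroup.normalizer (D : Set G)) {b b' : Set (IrrCharacter H)}
    {B : Set (IrrCharacter G)} (hind : IsInducedBlock M H b B) (hind' : IsInducedBlock M H b' B)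
    (hb : IsDefectGroup p M b (D.subgroupOf H)) : b = b' := by
  subst hH
  exact eq_of_induced_normalizer hM hD hind hind' hb

theorem defect_two_aux (hM : IsPModular 2 M) {x : G} (hx : orderOf x = 2)
    {B : Set (IrrCharacter G)} (hB : IsPBlock M B)
    (hBD : IsDefectGroup 2 M B (Subgroup.zpowers x)) {C : Subgroup G}
    (hC : C = Subgroup.centralizer ({x} : Set G))
    {b : Set (IrrCharacter ↥C)} (hb : IsInducedBlock M C b B)
    {θ : IrrCharacter ↥C} (hθ : θ ∈ b)
    (hθx : ∀ z : ↥C, (z : G) = x → (θ : ↥C → ℂ) z = (θ : ↥C → ℂ) 1) :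
    ∃ χ₁ ∈ B, ∃ χ₂ ∈ B, χ₁ ≠ χ₂ ∧ (∀ χ ∈ B, χ = χ₁ ∨ χ = χ₂) ∧
      (∀ g : G, ¬ 2 ∣ orderOf g → (χ₁ : G → ℂ) g = (χ₂ : G → ℂ) g) ∧
      ∃ ε : ℤ, (ε = 1 ∨ ε = -1) ∧ ∀ y : ↥C, ¬ 2 ∣ orderOf y →
          (χ₁ : G → ℂ) (x * y) = (ε : ℂ) * (θ : ↥C → ℂ) y ∧
          (χ₂ : G → ℂ) (x * y) = -(ε : ℂ) * (θ : ↥C → ℂ) y := by
  classical
  haveI : Fact (Nat.Prime 2) := ⟨Nat.prime_two⟩
  haveI := Fintype.ofFinite G
  haveI := Fintype.ofFinite C
  have hxC : x ∈ C := hC ▸ self_mem_centralizer x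
  have hCmem : ∀ c, c ∈ C ↔ c * x = x * c := fun c => by
    rw [hC, Subgroup.mem_centralizer_singleton_iff]
  have hxp : IsPElem 2 x := ⟨1, by rw [hx, pow_one]⟩
  set D := Subgroup.zpowers x with hD
  have hDp : IsPGroup 2 D := IsPElem.isPGroup_zpowers hxp
  have hcardD : Nat.card D = 2 := by rw [hD, Nat.card_zpowers, hx]
  have hDmem : ∀ d ∈ D, d = 1 ∨ d = x := by
    intro d hd
    obtain ⟨k, rfl⟩ := hd
    simp only
    rw [← zpow_mod_orderOf, hx]
    rcases Int.emod_two_eq_zero_or_one k with h | h <;> simp [h]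
  have hDC : D ≤ C := Subgroup.zpowers_le.2 hxC
  have hCN : C = Subgroup.normalizer (D : Set G) := by
    refine le_antisymm ?_ ?_
    · intro c hc
      rw [Subgroup.mem_normalizer_iff]
      intro d
      have h := (hCmem c).1 hc
      constructor
      · intro hd
        rcases hDmem d hd with h' | h'
        · simp [h']
        · rw [h', h, mul_inv_cancel_right]; exact Subgroup.mem_zpowers x
      · intro hd
        rcases hDmem _ hd with h' | h'
        · rw [conj_eq_one_iff.1 h']; exact one_mem _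
        · have : d = x := by
            have h'' : c * d * c⁻¹ = c * x * c⁻¹ := by rw [h', h, mul_inv_cancel_right]
            exact mul_left_cancel (mul_right_cancel h'')
          rw [this]; exact Subgroup.mem_zpowers x
    · intro c hc
      have h := (Subgroup.mem_normalizer_iff.1 hc x).1 (Subgroup.mem_zpowers x)
      rcases hDmem _ h with h' | h'
      · rw [conj_eq_one_iff] at h'
        rw [h', orderOf_one] at hx
        omega
      · exact (hCmem c).2 (mul_inv_eq_iff_eq_mul.1 h')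
  obtain ⟨hbb, -, -⟩ := id hb
  set Dc := D.subgroupOf C with hDc
  have hbD : IsDefectGroup 2 M b Dc := isDefectGroup_of_inducing hM hDC hCN.le hb hBD
  have hcen : ∀ d ∈ Dc, d ∈ Subgroup.center C := by
    intro d hd
    rw [Subgroup.mem_center_iff]
    intro c
    rcases hDmem _ hd with h | h
    · have : d = 1 := Subtype.ext h
      simp [this]
    · exact Subtype.ext (by
        show (c : G) * (d : G) = (d : G) * (c : G)
        rw [show (d : G) = x from h]
        exact (hCmem c).1 c.2)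
  have hG : Dc ⊔ Subgroup.centralizer (Dc : Set C) = ⊤ := by
    refine eq_top_iff.2 fun c _ => Subgroup.mem_sup_right (Subgroup.mem_centralizer_iff.2 fun d hd => ?_)
    exact (Subgroup.mem_center_iff.1 (hcen d hd) c).symm
  have htriv : ∀ q ∈ Dc, (θ : C → ℂ) q = (θ : C → ℂ) 1 := by
    intro q hq
    rcases hDmem _ hq with h | h
    · rw [show q = 1 from Subtype.ext h]
    · exact hθx q h
  set xc : C := ⟨x, hxC⟩ with hxcdef
  have hxc2 : xc ^ 2 = 1 := Subtype.ext (show x ^ 2 = 1 by rw [← hx, pow_orderOf_eq_one])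
  haveI := Fintype.ofFinite Dc
  have hDcomm : ∀ u v : Dc, u * v = v * u := fun u v =>
    Subtype.ext (Subgroup.mem_center_iff.1 (hcen v v.2) u)
  -- the members of b
  have hmem : ∀ ξ ∈ b, (∀ y : C, ¬ 2 ∣ orderOf y → (ξ : C → ℂ) y = (θ : C → ℂ) y) ∧
      ∃ e : ℤ, ∀ c : C, (ξ : C → ℂ) (xc * c) = (e : ℂ) * (ξ : C → ℂ) c := by
    intro ξ hξ
    obtain ⟨φ, -, hφ⟩ := exists_restrict_eq_smul hM hbb hbD hG hθ htriv hξ
    have hφ1 : (φ : Dc → ℂ) 1 = 1 := Ito.apply_one_of_abelian hDcomm φ.2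
    have hreg : ∀ y : C, ¬ 2 ∣ orderOf y → (ξ : C → ℂ) y = (θ : C → ℂ) y := fun y hy => by
      have h := hφ 1 y hy
      rwa [Subgroup.coe_one, one_mul, hφ1, one_mul] at h
    refine ⟨hreg, ?_⟩
    obtain ⟨n, ρ, hρ, hρe⟩ := ξ.2
    haveI := hρ
    obtain ⟨a, ha⟩ := Char.exists_scalar_of_mem_center ρ (hcen xc (Subgroup.mem_zpowers x))
    have hval : ∀ c : C, (ξ : C → ℂ) (xc * c) = a * (ξ : C → ℂ) c := fun c => by
      rw [← hρe]
      simp [Representation.character, map_mul, ha]
    have h2 : a * a = 1 := by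
      have h := hval (xc * 1)
      rw [hval 1, ← mul_assoc xc, ← sq, hxc2, one_mul, ← mul_assoc] at h
      exact mul_right_cancel₀ (deg_ne_zero ξ) (by rw [one_mul]; exact h.symm)
    rcases mul_self_eq_one_iff.1 h2 with rfl | rfl
    · exact ⟨1, fun c => by rw [hval, Int.cast_one]⟩
    · exact ⟨-1, fun c => by rw [hval, Int.cast_neg, Int.cast_one]⟩
  have hcardb : Nat.card b = 2 := by
    rw [card_block_central_product hM hbb hbD hG]
    have hc : Nat.card Dc = 2 := by
      rw [hDc, Nat.card_congr (Subgroup.subgroupOfEquivOfLe hDC).toEquiv, hcardD]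
    rw [← hc]
    exact (Nat.card_congr (Equiv.ofBijective ConjClasses.mk
      ⟨fun u v h => by
        obtain ⟨c, hc'⟩ := isConj_iff.1 (ConjClasses.mk_eq_mk_iff_isConj.1 h)
        rw [← hc', hDcomm c u, mul_inv_cancel_right],
      ConjClasses.mk_surjective⟩)).symm
  have hblock : ∀ χ : IrrCharacter G, χ ∈ B → ∀ y : C, ¬ 2 ∣ orderOf y →
      ∑ b' ∈ (blocks M C).filter (fun b' => IsInducedBlock M C b' B),
        blockPart b' (fun c : C => (χ : G → ℂ) (x * (c : G))) y = (χ : G → ℂ) (x * (y : G)) := by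
    subst hC
    intro χ hχ y hy
    exact (sum_induced_blockPart hM hxp B hB χ (y := y) hy).trans (if_pos hχ)
  have hsection : ∑ χ : IrrCharacter G, (if χ ∈ B then
        (χ : G → ℂ) (x * ((1 : C) : G)) * conj ((χ : G → ℂ) (x * ((1 : C) : G))) else 0) =
      ∑ b' ∈ (blocks M C).filter (fun b' => IsInducedBlock M C b' B),
        ∑ φ : IrrCharacter C, if φ ∈ b' then (φ : C → ℂ) 1 * conj ((φ : C → ℂ) 1) else 0 := by
    subst hC
    exact sum_block_section_eq hM hxp hB regular_one regular_one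
  -- the section coefficients
  have hT : (blocks M C).filter (fun b' => IsInducedBlock M C b' B) = {b} := by
    refine Finset.eq_singleton_iff_unique_mem.2
      ⟨Finset.mem_filter.2 ⟨mem_blocks.2 hbb, hb⟩, fun b' hb' => ?_⟩
    exact (eq_of_induced_of_eq_normalizer hM hDp hCN hb (Finset.mem_filter.1 hb').2 hbD).symm
  have hcoef : ∀ χ : IrrCharacter G, χ ∈ B → ∃ c : ℤ, ∀ y : C, ¬ 2 ∣ orderOf y →
      (χ : G → ℂ) (x * (y : G)) = (c : ℂ) * (θ : C → ℂ) y := by
    intro χ hχ
    set f : C → ℂ := fun c => (χ : G → ℂ) (x * (c : G)) with hf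
    have hint : ∀ ξ : IrrCharacter C, ∃ m : ℤ, ξ ∈ b → classInner f (ξ : C → ℂ) = (m : ℂ) := by
      intro ξ
      by_cases hξ : ξ ∈ b
      · obtain ⟨e, he⟩ := (hmem ξ hξ).2
        obtain ⟨m, hm⟩ := Char.classInner_natCast (G := C)
          (Char.isCharacter_restrict (Char.isCharacter_of_isIrr χ.2) C) (Char.isCharacter_of_isIrr ξ.2)
        refine ⟨e * m, fun _ => ?_⟩
        rw [Int.cast_mul, Int.cast_natCast, ← hm]
        simp only [classInner]
        rw [← Equiv.sum_comp (Equiv.mulLeft xc) (fun c => f c * conj ((ξ : C → ℂ) c)),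
          mul_left_comm, Finset.mul_sum (a := (e : ℂ))]
        congr 1
        refine Finset.sum_congr rfl fun c _ => ?_
        simp only [Equiv.coe_mulLeft, hf, he c, map_mul, map_intCast]
        have : x * ((xc * c : C) : G) = (c : G) := by
          show x * (x * (c : G)) = c
          rw [← mul_assoc, ← sq, ← hx, pow_orderOf_eq_one, one_mul]
        rw [this]
        ring
      · exact ⟨0, fun h => absurd h hξ⟩
    choose m hm using hint
    refine ⟨∑ ξ : IrrCharacter C, if ξ ∈ b then m ξ else 0, fun y hy => ?_⟩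
    have h := hblock χ hχ y hy
    rw [hT, Finset.sum_singleton, blockPart_apply] at h
    rw [← h, Int.cast_sum, Finset.sum_mul]
    refine Finset.sum_congr rfl fun ξ _ => ?_
    split_ifs with hξ
    · rw [hm ξ hξ, (hmem ξ hξ).1 y hy]
    · simp
  choose! c hc using hcoef
  have hθ1 : (θ : C → ℂ) 1 ≠ 0 := deg_ne_zero θ
  have hc1 : ∀ χ ∈ B, (χ : G → ℂ) x = (c χ : ℂ) * (θ : C → ℂ) 1 := by
    intro χ hχ
    have := hc χ hχ 1 regular_one
    rwa [Subgroup.coe_one, mul_one] at this
  set T : Finset (IrrCharacter G) := Finset.univ.filter (fun χ => χ ∈ B) with hTdef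
  have hTmem : ∀ χ, χ ∈ T ↔ χ ∈ B := fun χ => by simp [hTdef]
  have hsq : ∑ χ ∈ T, c χ * c χ = 2 := by
    have h := hsection
    rw [hT, Finset.sum_singleton, ← Finset.sum_filter, ← hTdef, ← Finset.sum_filter] at h
    rw [Finset.sum_congr rfl fun (χ : IrrCharacter G) hχ => show (χ : G → ℂ) (x * ((1 : C) : G)) *
        conj ((χ : G → ℂ) (x * ((1 : C) : G))) = ((c χ * c χ : ℤ) : ℂ) *
          ((θ : C → ℂ) 1 * conj ((θ : C → ℂ) 1)) by
        rw [Subgroup.coe_one, mul_one, hc1 χ ((hTmem χ).1 hχ), map_mul, map_intCast, Int.cast_mul]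
        ring, ← Finset.sum_mul, Finset.sum_congr rfl fun (ξ : IrrCharacter C) hξ => show (ξ : C → ℂ) 1 *
        conj ((ξ : C → ℂ) 1) = (θ : C → ℂ) 1 * conj ((θ : C → ℂ) 1) by
        rw [(hmem ξ (Finset.mem_filter.1 hξ).2).1 1 regular_one], Finset.sum_const, nsmul_eq_mul,
      ← Int.cast_sum] at h
    have hcb : (Finset.univ.filter (fun ξ : IrrCharacter C => ξ ∈ b)).card = 2 := by
      rw [← hcardb, ← Fintype.card_subtype, ← Nat.card_eq_fintype_card]
    rw [hcb] at h
    have h2 := mul_right_cancel₀ (mul_ne_zero hθ1 ((map_ne_zero _).2 hθ1)) h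
    exact_mod_cast h2
  have hne : ∀ χ ∈ T, c χ ≠ 0 := by
    intro χ hχ h0
    have hχB := (hTmem χ).1 hχ
    have hdef := blockDefect_eq_zero_of_vanish hM hB hχB (fun g hg => by
      obtain ⟨z, hz⟩ := exists_isPPart (p := 2) g
      by_cases hcj : ∀ u : G, u * z * u⁻¹ ∉ D
      · exact char_eq_zero_of_not_conj hM hB hBD hχB hz hcj
      push Not at hcj
      obtain ⟨u, hu⟩ := hcj
      rcases hDmem _ hu with h1 | h1
      · exfalso
        rw [conj_eq_one_iff] at h1
        subst h1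
        exact (regular_iff_isPPart_one (p := 2) (g := g)).2 hz hg
      · have hz' := IsPPart.conj hz u
        rw [h1] at hz'
        obtain ⟨s, hs1, hs2, -, hs4⟩ := hz'
        rw [← Char.isClassFunction_of_isIrr χ.2 g u, ← hs1]
        have h := hc χ hχB ⟨s, (hCmem s).2 hs2.symm.eq⟩
          (by rw [Subgroup.orderOf_mk]; exact hs4)
        rw [h0, Int.cast_zero, zero_mul] at h
        exact h)
    have := (IsDefectGroup.props hM hB hBD).2.1
    rw [hcardD, hdef, pow_zero] at this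
    exact absurd this (by norm_num)
  have hge : ∀ χ ∈ T, 1 ≤ c χ * c χ := fun χ hχ => by
    have h := hne χ hχ
    rcases lt_or_gt_of_ne h with h' | h' <;> nlinarith
  have hcardT : T.card ≤ 2 := by
    have := Finset.sum_le_sum hge
    rw [hsq, Finset.sum_const, nsmul_eq_mul, mul_one] at this
    exact_mod_cast this
  -- weak orthogonality
  have hweak : ∀ g : G, ¬ 2 ∣ orderOf g → ∑ χ ∈ T, (c χ : ℂ) * (χ : G → ℂ) g = 0 := by
    intro g hg
    have h := weak_orthogonality hM hB hg (y := x) (by rw [hx])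
    rw [← Finset.sum_filter, ← hTdef] at h
    rw [Finset.sum_congr rfl fun (χ : IrrCharacter G) hχ => show (χ : G → ℂ) g * conj ((χ : G → ℂ) x) =
      (c χ : ℂ) * (χ : G → ℂ) g * conj ((θ : C → ℂ) 1) by
        rw [hc1 χ ((hTmem χ).1 hχ), map_mul, map_intCast]; ring, ← Finset.sum_mul] at h
    exact (mul_eq_zero.1 h).resolve_right ((map_ne_zero _).2 hθ1)
  obtain ⟨χ₀, hχ₀⟩ := isPBlock_nonempty hB
  have hcard2 : T.card = 2 := by
    by_contra h
    have hpos : 0 < T.card := Finset.card_pos.2 ⟨χ₀, (hTmem χ₀).2 hχ₀⟩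
    obtain ⟨χ, hχT⟩ := Finset.card_eq_one.1 (show T.card = 1 by omega)
    have h1 := hweak 1 regular_one
    rw [hχT, Finset.sum_singleton, mul_eq_zero, Int.cast_eq_zero] at h1
    exact h1.elim (hne χ (by simp [hχT])) (deg_ne_zero χ)
  obtain ⟨χ₁, χ₂, h12, hT2⟩ := Finset.card_eq_two.1 hcard2
  have hm1 : χ₁ ∈ T := by simp [hT2]
  have hm2 : χ₂ ∈ T := by simp [hT2]
  rw [hT2, Finset.sum_pair h12] at hsq
  have e1 : c χ₁ * c χ₁ = 1 := le_antisymm (by linarith [hge χ₂ hm2]) (hge χ₁ hm1)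
  have e2 : c χ₂ * c χ₂ = 1 := by linarith
  have hrel : ∀ g : G, ¬ 2 ∣ orderOf g →
      (c χ₁ : ℂ) * (χ₁ : G → ℂ) g + (c χ₂ : ℂ) * (χ₂ : G → ℂ) g = 0 := by
    intro g hg
    have := hweak g hg
    rwa [hT2, Finset.sum_pair h12] at this
  have hopp : c χ₂ = - c χ₁ := by
    have h := hrel 1 regular_one
    rw [irr_one_eq_natCast, irr_one_eq_natCast] at h
    have h' : c χ₁ * (charDegree (χ₁ : G → ℂ) : ℤ) + c χ₂ * (charDegree (χ₂ : G → ℂ) : ℤ) = 0 := by
      exact_mod_cast h
    have := charDegree_pos χ₁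
    have := charDegree_pos χ₂
    rcases mul_self_eq_one_iff.1 e1 with a | a <;> rcases mul_self_eq_one_iff.1 e2 with b | b <;>
      rw [a, b] at h' ⊢ <;> omega
  refine ⟨χ₁, (hTmem χ₁).1 hm1, χ₂, (hTmem χ₂).1 hm2, h12, fun χ hχ => ?_, fun g hg => ?_,
    c χ₁, mul_self_eq_one_iff.1 e1, fun y hy => ⟨hc χ₁ ((hTmem χ₁).1 hm1) y hy, ?_⟩⟩
  · have := (hTmem χ).2 hχ
    simpa [hT2] using this
  · have h := hrel g hg
    rw [hopp, Int.cast_neg, neg_mul, ← sub_eq_add_neg, sub_eq_zero] at h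
    exact mul_left_cancel₀ (Int.cast_ne_zero.2 (hne χ₁ hm1)) h
  · rw [hc χ₂ ((hTmem χ₂).1 hm2) y hy, hopp, Int.cast_neg]

end Cfsg.Agent.Lib.Block
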