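import Cfsg.Agent.Lib.Block.InflateDerived

/-!
# Blocks of a quotient and their defect groups
-/

namespace Cfsg.Agent.Lib.Block

open Cfsg
open scoped ComplexConjugate

set_option linter.unusedSectionVars false
set_option linter.style.haveILetI false

universe u

variable {p : ℕ} {M : Ideal AlgInt} [M.IsPrime] {G : Type u} [Group G] [Finite G]
variable (N : Subgroup G) [N.Normal]

/-- Inflation from `G ⧸ N`. -/
noncomputable def inflate (η : IrrCharacter (G ⧸ N)) : IrrCharacter G :=
  ⟨(η : G ⧸ N → ℂ) ∘ QuotientGroup.mk,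
    Char.isIrrCharacter_comp η.2 (QuotientGroup.mk' N) (QuotientGroup.mk'_surjective N)⟩

/-- The centraliser of the image of `g`, pulled back to `G`. -/
def centPre (g : G) : Subgroup G :=
  (Subgroup.centralizer ({(QuotientGroup.mk g : G ⧸ N)} : Set (G ⧸ N))).comap (QuotientGroup.mk' N)

theorem centralizer_le_centPre (g : G) : Subgroup.centralizer ({g} : Set G) ≤ centPre N g := by
  intro u hu
  rw [centPre, Subgroup.mem_comap, Subgroup.mem_centralizer_singleton_iff]
  exact congrArg (QuotientGroup.mk' N) (Subgroup.mem_centralizer_singleton_iff.1 hu)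

theorem le_centPre (g : G) : N ≤ centPre N g := fun u hu => by
  rw [centPre, Subgroup.mem_comap, QuotientGroup.mk'_apply, (QuotientGroup.eq_one_iff u).2 hu]
  exact one_mem _

theorem centralChar_inflate_relIndex (η : IrrCharacter (G ⧸ N)) (g : G) :
    centralChar (inflate N η : G → ℂ) g =
      ((Subgroup.centralizer ({g} : Set G)).relIndex (centPre N g) : ℂ) *
        centralChar (η : G ⧸ N → ℂ) (QuotientGroup.mk g) := by
  have h := Subgroup.relIndex_mul_index (centralizer_le_centPre N g)
  have hidx : (centPre N g).index =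
      (Subgroup.centralizer ({(QuotientGroup.mk g : G ⧸ N)} : Set (G ⧸ N))).index :=
    Subgroup.index_comap_of_surjective _ (QuotientGroup.mk'_surjective N)
  rw [hidx] at h
  simp only [centralChar, inflate, Function.comp, QuotientGroup.mk_one, ← h]
  push_cast
  ring

/-- A class where the block idempotent and the central character of a dominated block are units. -/
theorem exists_support_inflate {B : Set (IrrCharacter G)} (hB : IsPBlock M B) (hM : IsPModular p M)
    {η : IrrCharacter (G ⧸ N)} (hη : inflate N η ∈ B) :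
    ∃ g : G, redC M (blockCoeff B g) ≠ 0 ∧
      ¬ p ∣ (Subgroup.centralizer ({g} : Set G)).relIndex (centPre N g) ∧
      redC M (centralChar (η : G ⧸ N → ℂ) (QuotientGroup.mk g)) ≠ 0 := by
  obtain ⟨g, h1, h2⟩ := exists_class_units hB hη
  rw [centralChar_inflate_relIndex, redC_mul (nat_mem _) (centralChar_mem_locRing η _)] at h2
  exact ⟨g, h1, fun hd => left_ne_zero_of_mul h2 ((redC_natCast_eq_zero_iff hM).2 hd),
    right_ne_zero_of_mul h2⟩

variable [Fact p.Prime]

/-- When the centraliser loses no `p`-part, a Sylow subgroup of it maps onto one of the centraliser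
of the image. -/
theorem isSylowOf_map {g : G} (h : ¬ p ∣ (Subgroup.centralizer ({g} : Set G)).relIndex (centPre N g))
    {R : Subgroup G} (hR : IsSylowOf p R (Subgroup.centralizer ({g} : Set G))) :
    IsSylowOf p (R.map (QuotientGroup.mk' N))
      (Subgroup.centralizer ({(QuotientGroup.mk g : G ⧸ N)} : Set (G ⧸ N))) := by
  have hp := (Fact.out : p.Prime)
  set Cb := Subgroup.centralizer ({(QuotientGroup.mk g : G ⧸ N)} : Set (G ⧸ N)) with hCb
  have hle : R.map (QuotientGroup.mk' N) ≤ Cb :=
    Subgroup.map_le_iff_le_comap.2 (hR.1.trans (centralizer_le_centPre N g))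
  refine ⟨hle, ?_⟩
  obtain ⟨k, hk⟩ := IsPGroup.iff_card.1 (hR.isPGroup.map (QuotientGroup.mk' N))
  rw [hk]
  congr 1
  refine le_antisymm ?_ ?_
  · refine (hp.pow_dvd_iff_le_factorization Nat.card_pos.ne').1 ?_
    rw [← hk]; exact Subgroup.card_dvd_of_le hle
  -- count the kernel of `R → R̄`
  set f := (QuotientGroup.mk' N).subgroupMap R with hf
  have hcard : Nat.card R = Nat.card (R ⊓ N : Subgroup G) * p ^ k := by
    rw [← hk, ← Subgroup.index_mul_card f.ker, mul_comm, Subgroup.index_ker,
      MonoidHom.range_eq_top.2 (MonoidHom.subgroupMap_surjective _ R), Subgroup.card_top]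
    congr 1
    refine Nat.card_congr
      { toFun := fun x => ⟨(x : R), (x : R).2, ?_⟩
        invFun := fun x => ⟨⟨x, x.2.1⟩, ?_⟩
        left_inv := fun x => rfl
        right_inv := fun x => rfl }
    · have := x.2
      rw [MonoidHom.mem_ker, Subtype.ext_iff] at this
      exact (QuotientGroup.eq_one_iff _).1 this
    · rw [MonoidHom.mem_ker, Subtype.ext_iff]
      exact (QuotientGroup.eq_one_iff _).2 x.2.2
  have hpre : Nat.card (centPre N g) = Nat.card N * Nat.card Cb := by
    have h1 := Subgroup.index_mul_card (centPre N g)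
    have h2 := Subgroup.index_mul_card Cb
    have h3 := Subgroup.card_eq_card_quotient_mul_card_subgroup N
    rw [show (centPre N g).index = Cb.index from
      Subgroup.index_comap_of_surjective _ (QuotientGroup.mk'_surjective N)] at h1
    rw [← h2] at h3
    refine Nat.eq_of_mul_eq_mul_left (Nat.pos_of_ne_zero (Subgroup.index_ne_zero_of_finite (H := Cb))) ?_
    rw [h1, h3]; ring
  have hrel : (Subgroup.centralizer ({g} : Set G)).relIndex (centPre N g) *
      Nat.card (Subgroup.centralizer ({g} : Set G)) = Nat.card (centPre N g) := by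
    refine Nat.eq_of_mul_eq_mul_left
      (Nat.pos_of_ne_zero (Subgroup.index_ne_zero_of_finite (H := centPre N g))) ?_
    rw [Subgroup.index_mul_card, ← mul_assoc, mul_comm (centPre N g).index,
      Subgroup.relIndex_mul_index (centralizer_le_centPre N g), Subgroup.index_mul_card]
  have e1 := congrArg (fun m => Nat.factorization m p) hrel
  have e2 := congrArg (fun m => Nat.factorization m p) hcard
  simp only [hpre, hR.2] at e1 e2
  rw [Nat.factorization_mul Nat.card_pos.ne' Nat.card_pos.ne',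
    Nat.factorization_mul ?_ Nat.card_pos.ne', Finsupp.add_apply, Finsupp.add_apply,
    Nat.factorization_eq_zero_of_not_dvd h, zero_add] at e1
  · rw [Nat.factorization_mul Nat.card_pos.ne' (pow_ne_zero _ hp.ne_zero), Finsupp.add_apply,
      hp.factorization_pow, Finsupp.single_eq_same, hp.factorization_pow, Finsupp.single_eq_same] at e2
    have e3 : (Nat.card (R ⊓ N : Subgroup G)).factorization p ≤ (Nat.card N).factorization p :=
      (Nat.factorization_le_iff_dvd Nat.card_pos.ne' Nat.card_pos.ne').2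
        (Subgroup.card_dvd_of_le inf_le_right) p
    omega
  · exact fun h0 => h (h0 ▸ dvd_zero p)

/-- A `p`-subgroup of a group containing a given Sylow subgroup is conjugate into it. -/
theorem conjLE_of_isSylowOf {P R C : Subgroup G} (hP : IsPGroup p P) (hPC : P ≤ C)
    (hR : IsSylowOf p R C) : ConjLE P R := by
  obtain ⟨S, rfl⟩ := isSylowOf_iff.1 hR
  obtain ⟨Q, hQ⟩ := (hP.comap_subtype (K := C)).exists_le_sylow
  obtain ⟨c, hc⟩ := MulAction.exists_smul_eq C Q S
  refine ⟨c, ?_⟩
  rintro _ ⟨v, hv, rfl⟩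
  refine ⟨c * ⟨v, hPC hv⟩ * c⁻¹, ?_, by simp⟩
  rw [← hc, Sylow.coe_subgroup_smul]
  exact Subgroup.smul_mem_pointwise_smul _ (MulAut.conj c) _ (hQ (show (⟨v, hPC hv⟩ : C) ∈ _ from hv))

theorem map_map_conj (P : Subgroup G) (x : G) :
    (P.map (MulAut.conj x).toMonoidHom).map (QuotientGroup.mk' N) =
      (P.map (QuotientGroup.mk' N)).map (MulAut.conj (QuotientGroup.mk' N x)).toMonoidHom := by
  rw [Subgroup.map_map, Subgroup.map_map]
  congr 1

/-- A defect group of a dominated block lies in the image of a defect group of the block. -/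
theorem exists_defect_image (hM : IsPModular p M) {Bbar : Set (IrrCharacter (G ⧸ N))}
    (hBbar : IsPBlock M Bbar) {B : Set (IrrCharacter G)} (hB : IsPBlock M B)
    (hsub : ∀ η ∈ Bbar, inflate N η ∈ B) {Db : Subgroup (G ⧸ N)} (hD : IsDefectGroup p M Bbar Db) :
    ∃ P : Subgroup G, IsDefectGroup p M B P ∧ Db ≤ P.map (QuotientGroup.mk' N) := by
  obtain ⟨η, hη⟩ := isPBlock_nonempty hBbar
  obtain ⟨g, h1, h2, h3⟩ := exists_support_inflate N hB hM (hsub η hη)
  obtain ⟨S⟩ := (inferInstance : Nonempty (Sylow p (Subgroup.centralizer ({g} : Set G))))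
  set R := (S : Subgroup (Subgroup.centralizer ({g} : Set G))).map
    (Subgroup.centralizer ({g} : Set G)).subtype with hR
  have hRs : IsSylowOf p R (Subgroup.centralizer ({g} : Set G)) := isSylowOf_iff.2 ⟨S, rfl⟩
  obtain ⟨D₀, hD₀⟩ := exists_isDefectGroup hM hB
  obtain ⟨x, hx⟩ := conjLE_defect_of_support hM hB hD₀ h1 hRs.isPGroup
    (le_centralizer_singleton_iff.1 hRs.1)
  obtain ⟨y, hy, hc⟩ := exists_conj_centralizes_defect hM hBbar hη hD h3
  obtain ⟨z, hz⟩ := conj_mem_of_isConj hc hy
  obtain ⟨w, hw⟩ := conjLE_of_isSylowOf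
    ((IsDefectGroup.props hM hBbar hD).1.map (MulAut.conj z).toMonoidHom)
    (le_centralizer_singleton_iff.2 hz) (isSylowOf_map N h2 hRs)
  rw [map_conj_map_conj] at hw
  obtain ⟨v, hv⟩ := QuotientGroup.mk'_surjective N (w * z)
  refine ⟨D₀.map (MulAut.conj (v⁻¹ * x⁻¹)).toMonoidHom, IsDefectGroup.map_conj hM hB hD₀ _, fun d hd => ?_⟩
  obtain ⟨r, hr, hrd⟩ := hw ⟨d, hd, rfl⟩
  refine ⟨v⁻¹ * r * v, ⟨x * r * x⁻¹, hx ⟨r, hr, rfl⟩, by simp [mul_assoc]⟩, ?_⟩
  have hrd' : QuotientGroup.mk' N r = w * z * d * (w * z)⁻¹ := by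
    simpa [mul_assoc] using hrd
  rw [map_mul, map_mul, map_inv, hv, hrd']
  group

/-- The characters of `G ⧸ N` whose inflation lies in `B`. -/
def deflSet (B : Set (IrrCharacter G)) : Set (IrrCharacter (G ⧸ N)) := {η | inflate N η ∈ B}

open scoped Classical in
/-- The idempotent of the dominated blocks is the image of the block idempotent. -/
theorem blockCoeff_deflSet [Fintype G] (B : Set (IrrCharacter G)) (q : G ⧸ N) :
    blockCoeff (deflSet N B) q = ∑ g ∈ Finset.univ.filter (fun g : G => (g : G ⧸ N) = q), blockCoeff B g := by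
  haveI := Fintype.ofFinite (G ⧸ N)
  have h : eIdem (deflSet N B) =
      ofFun fun q : G ⧸ N => ∑ g ∈ Finset.univ.filter (fun g : G => (g : G ⧸ N) = q), blockCoeff B g := by
    refine eq_of_omega_eq (isClassCoeff_eIdem _) (fun u x => ?_) fun η => ?_
    · simp only [coeff_ofFun]
      obtain ⟨v, rfl⟩ := QuotientGroup.mk_surjective u
      refine Finset.sum_equiv (MulAut.conj v⁻¹).toEquiv (fun g => ?_) fun g _ => ?_
      · simp only [Finset.mem_filter, Finset.mem_univ, true_and, MulEquiv.toEquiv_eq_coe,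
          EquivLike.coe_coe, MulAut.conj_apply, inv_inv, QuotientGroup.mk_mul, QuotientGroup.mk_inv]
        exact ⟨fun h => by rw [h]; group, fun h => by rw [← h]; group⟩
      · simpa using (isClassFunction_blockCoeff B g v⁻¹).symm
    · have h1 := omega_eIdem B (inflate N η)
      rw [omega_eq_sum] at h1
      rw [omega_eIdem, omega_eq_sum]
      simp only [coeff_ofFun, coeff_eIdem, inflate, Function.comp, QuotientGroup.mk_one] at h1 ⊢
      rw [Finset.sum_congr rfl (g := fun q => ∑ g ∈ Finset.univ.filter (fun g : G => (g : G ⧸ N) = q),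
        blockCoeff B g * (η : G ⧸ N → ℂ) (g : G ⧸ N)) (fun q _ => by
          rw [Finset.sum_mul]
          exact Finset.sum_congr rfl fun g hg => by rw [(Finset.mem_filter.1 hg).2]),
        Finset.sum_fiberwise, h1]
      rfl
  rw [← coeff_eIdem, h, coeff_ofFun]

theorem intR_deflSet (hM : IsPModular p M) {B : Set (IrrCharacter G)} (hB : IsPBlock M B) :
    ∀ η ∈ deflSet N B, ∀ ψ : IrrCharacter (G ⧸ N),
      SameBlock M (η : G ⧸ N → ℂ) (ψ : G ⧸ N → ℂ) → ψ ∈ deflSet N B := by
  intro η hη ψ hψ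
  refine (mem_iff_sameBlock hB hη).2 (sameBlock_iff.2 fun g => ?_)
  rw [centralChar_inflate_relIndex, centralChar_inflate_relIndex,
    redC_mul (nat_mem _) (centralChar_mem_locRing η _),
    redC_mul (nat_mem _) (centralChar_mem_locRing ψ _), sameBlock_iff.1 hψ]

/-- Blocks modulo a normal `p`-subgroup: some dominated block has the image of a defect group as
defect group. -/
theorem exists_block_image_defect (hM : IsPModular p M) (hN : IsPGroup p N)
    {B : Set (IrrCharacter G)} (hB : IsPBlock M B) :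
    ∃ Bbar : Set (IrrCharacter (G ⧸ N)), IsPBlock M Bbar ∧ (∀ η ∈ Bbar, inflate N η ∈ B) ∧
      ∀ Db : Subgroup (G ⧸ N), IsDefectGroup p M Bbar Db ↔
        ∃ P : Subgroup G, IsDefectGroup p M B P ∧ Db = P.map (QuotientGroup.mk' N) := by
  classical
  haveI := Fintype.ofFinite G
  haveI := Fintype.ofFinite (G ⧸ N)
  obtain ⟨D, hD⟩ := exists_isDefectGroup hM hB
  obtain ⟨hDp, hDc, s, hs, hsD⟩ := IsDefectGroup.props hM hB hD
  obtain ⟨χ₀, hχ₀, htriv⟩ := exists_mem_trivial_on hM hN hB
  obtain ⟨η₀, hη₀, he⟩ := Char.exists_irr_deflation χ₀.2 N htriv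
  have hη₀B : inflate N ⟨η₀, hη₀⟩ ∈ B := by
    convert hχ₀ using 1
    exact Subtype.ext (funext he)
  obtain ⟨hcoef, hlam⟩ := (isDefectClass_iff hB hη₀B).1 hs
  have hsreg := (defectClass_facts hM hB hs).2.1
  have hsN : s ∈ Subgroup.centralizer (N : Set G) := mem_centralizer_of_lambda hM hN _ hlam
  -- the idempotent at the image of `s`
  have hsum : blockCoeff (deflSet N B) (QuotientGroup.mk s : G ⧸ N) = blockCoeff B s := by
    rw [blockCoeff_deflSet, Finset.sum_eq_single s]
    · intro g hg hne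
      refine blockCoeff_eq_zero_of_singular hM hB ?_
      by_contra hreg
      obtain ⟨n, hn⟩ : ∃ n, n = s⁻¹ * g := ⟨_, rfl⟩
      have hnN : n ∈ N := hn ▸ QuotientGroup.eq.1 (Finset.mem_filter.1 hg).2.symm
      have hcm : Commute n s := Subgroup.mem_centralizer_iff.1 hsN n hnN
      have hgn : n * s = g := by rw [hcm.eq, hn, mul_inv_cancel_left]
      have h1 := isPPart_mul (isPElem_of_mem hN hnN) hsreg hcm
      rw [hgn] at h1
      have h2 := IsPPart.unique h1 (isPPart_one_of_regular hreg)
      rw [h2, one_mul] at hgn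
      exact hne hgn.symm
    · intro h
      exact absurd (by simp) h
  set S := deflSet N B with hS
  set T := (Finset.univ.filter (· ∈ S)).image fun η : IrrCharacter (G ⧸ N) =>
    blockOf M (η : G ⧸ N → ℂ) with hT
  have hdec : eIdem S = ∑ B' ∈ T, eIdem B' := by
    refine eq_of_omega_eq (isClassCoeff_eIdem S) (fun u x => ?_) fun η => ?_
    · simp only [coeff_sum_apply]
      exact Finset.sum_congr rfl fun B' _ => isClassCoeff_eIdem B' u x
    rw [omega_sum, omega_eIdem]
    simp only [omega_eIdem]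
    split_ifs with hη
    · rw [Finset.sum_eq_single (blockOf M (η : G ⧸ N → ℂ))]
      · rw [if_pos (mem_blockOf_self η)]
      · intro B' hB' hne
        rw [if_neg]
        intro hmem
        obtain ⟨φ, -, rfl⟩ := Finset.mem_image.1 hB'
        exact hne (blockOf_eq_of_mem (isPBlock_blockOf φ) hmem)
      · intro h
        exact absurd (Finset.mem_image.2 ⟨η, by simp [hη], rfl⟩) h
    · refine (Finset.sum_eq_zero fun B' hB' => if_neg fun hmem => hη ?_).symm
      obtain ⟨φ, hφ, rfl⟩ := Finset.mem_image.1 hB'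
      exact intR_deflSet N hM hB φ (Finset.mem_filter.1 hφ).2 η hmem
  have hne : ∑ B' ∈ T, redC M (blockCoeff B' (QuotientGroup.mk s)) ≠ 0 := by
    intro h0
    have hR : ∀ B' ∈ T, blockCoeff B' (QuotientGroup.mk s : G ⧸ N) ∈ locRing M := fun B' hB' => by
      obtain ⟨φ, -, rfl⟩ := Finset.mem_image.1 hB'
      exact intR_eIdem (isPBlock_blockOf φ) _
    refine hcoef ?_
    rw [← hsum, ← coeff_eIdem, hdec, coeff_sum_apply]
    simp only [coeff_eIdem]
    rw [redC_sum _ hR]
    exact h0
  obtain ⟨Bbar, hBT, hB0⟩ := Finset.exists_ne_zero_of_sum_ne_zero hne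
  obtain ⟨φ, hφ, rfl⟩ := Finset.mem_image.1 hBT
  have hφB := (Finset.mem_filter.1 hφ).2
  have hsub : ∀ η ∈ blockOf M (φ : G ⧸ N → ℂ), inflate N η ∈ B :=
    fun η hη => intR_deflSet N hM hB φ hφB η hη
  have hbb : IsPBlock M (blockOf M (φ : G ⧸ N → ℂ)) := isPBlock_blockOf φ
  have hl := ((isDefectClass_iff hB hφB).1 hs).2
  rw [centralChar_inflate_relIndex, redC_mul (nat_mem _) (centralChar_mem_locRing φ _)] at hl
  have hcls : IsDefectClass M (blockOf M (φ : G ⧸ N → ℂ)) (QuotientGroup.mk s : G ⧸ N) :=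
    (isDefectClass_iff hbb (mem_blockOf_self φ)).2 ⟨hB0, right_ne_zero_of_mul hl⟩
  have hrel : ¬ p ∣ (Subgroup.centralizer ({s} : Set G)).relIndex (centPre N s) :=
    fun hd => left_ne_zero_of_mul hl ((redC_natCast_eq_zero_iff hM).2 hd)
  obtain ⟨Q, hQ⟩ := isSylowOf_iff.1 (isSylowOf_map N hrel
    (R := D) ⟨le_centralizer_singleton_iff.2 hsD, by rw [hDc, (defectClass_facts hM hB hs).1]⟩)
  have hDb : IsDefectGroup p M (blockOf M (φ : G ⧸ N → ℂ)) (D.map (QuotientGroup.mk' N)) :=
    ⟨_, hcls, Q, hQ.symm⟩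
  refine ⟨_, hbb, hsub, fun Db => ⟨fun hDb' => ?_, ?_⟩⟩
  · obtain ⟨q, hq⟩ := exists_conj_defect hM hbb hDb hDb'
    obtain ⟨x, rfl⟩ := QuotientGroup.mk'_surjective N q
    exact ⟨_, IsDefectGroup.map_conj hM hB hD x, by rw [map_map_conj, hq]⟩
  · rintro ⟨P, hP, rfl⟩
    obtain ⟨x, rfl⟩ := exists_conj_defect hM hB hD hP
    rw [map_map_conj]
    exact IsDefectGroup.map_conj hM hbb hDb _

end Cfsg.Agent.Lib.Block
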