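import Cfsg.Agent.Lib.Block.NormalP
import Cfsg.Agent.Lib.Fusion.MetaTwoGroup

/-!
# Blocks modulo the derived group of a normal `p`-subgroup
-/

namespace Cfsg.Agent.Lib.Block

open Cfsg
open scoped ComplexConjugate

set_option linter.unusedSectionVars false
set_option linter.style.haveILetI false

universe u

variable {p : ℕ} {M : Ideal AlgInt} [M.IsPrime] {G : Type u} [Group G] [Finite G]

/-- The central characters on the `p`-regular classes determine the block. -/
theorem sameBlock_of_regular (hM : IsPModular p M) {χ ψ : IrrCharacter G}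
    (h : ∀ g : G, ¬ p ∣ orderOf g →
      redC M (centralChar (χ : G → ℂ) g) = redC M (centralChar (ψ : G → ℂ) g)) :
    SameBlock M (χ : G → ℂ) (ψ : G → ℂ) := by
  classical
  haveI := Fintype.ofFinite G
  have hB : IsPBlock M (blockOf M (χ : G → ℂ)) := ⟨χ, rfl⟩
  have hR := intR_eIdem hB
  have he : redC M (omega (ψ : G → ℂ) (eIdem (blockOf M (χ : G → ℂ)))) =
      redC M (omega (χ : G → ℂ) (eIdem (blockOf M (χ : G → ℂ)))) := by
    rw [redC_omega_eq_sum ψ (isClassCoeff_eIdem _) hR, redC_omega_eq_sum χ (isClassCoeff_eIdem _) hR]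
    refine Finset.sum_congr rfl fun C _ => ?_
    by_cases hC : redC M ((eIdem (blockOf M (χ : G → ℂ))).coeff C.out) = 0
    · rw [hC, zero_mul, zero_mul]
    · rw [h _ (regular_of_redC_blockCoeff_ne_zero hM hB (by simpa using hC))]
  rw [omega_eIdem, omega_eIdem, if_pos (mem_blockOf_self χ), redC_one] at he
  by_contra hn
  rw [if_neg (fun hm => hn (mem_blockOf_iff.1 hm)), redC_zero] at he
  exact zero_ne_one he

/-- An element of order prime to `p` centralises a `p`-group as soon as it centralises it modulo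
the derived group. -/
theorem commute_of_commute_mod_derived [Fact p.Prime] {D : Subgroup G} [D.Normal] (hD : IsPGroup p D)
    {g : G} (hreg : ¬ p ∣ orderOf g) (h : ∀ x ∈ D, g * x * g⁻¹ * x⁻¹ ∈ ⁅D, D⁆) :
    g ∈ Subgroup.centralizer (D : Set G) := by
  have hα : (MulAut.conjNormal g : MulAut D) = 1 := by
    refine Fusion.MetaTwo.aut_eq_one_of_trivial_mod_frattini hD (m := orderOf g)
      ((Nat.Prime.coprime_iff_not_dvd Fact.out).2 hreg).symm
      (by rw [← map_pow, pow_orderOf_eq_one, map_one]) fun x => ?_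
    refine PGroupFrattini.commutator_le_frattini hD ?_
    have hx := h x x.2
    rw [← Subgroup.map_subtype_commutator] at hx
    obtain ⟨y, hy, he⟩ := hx
    have e : y = MulAut.conjNormal g x * x⁻¹ := Subtype.ext (by simpa using he)
    exact e ▸ hy
  refine Subgroup.mem_centralizer_iff.2 fun x hx => ?_
  have := congrArg Subtype.val (DFunLike.congr_fun hα ⟨x, hx⟩)
  rw [MulAut.conjNormal_apply] at this
  exact (mul_inv_eq_iff_eq_mul.1 this).symm

/-- A normal `p`-subgroup inside `N` does not separate the blocks of `G ⧸ N`, for `N` the derived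
group of a normal `p`-subgroup. -/
theorem sameBlock_inflate_derived (hM : IsPModular p M) {D : Subgroup G} [D.Normal] (hD : IsPGroup p D)
    (χ ψ : IrrCharacter (G ⧸ ⁅D, D⁆)) :
    SameBlock M (χ : G ⧸ ⁅D, D⁆ → ℂ) (ψ : G ⧸ ⁅D, D⁆ → ℂ) ↔
      SameBlock M ((χ : G ⧸ ⁅D, D⁆ → ℂ) ∘ QuotientGroup.mk)
        ((ψ : G ⧸ ⁅D, D⁆ → ℂ) ∘ QuotientGroup.mk) := by
  classical
  haveI : Fact p.Prime := ⟨hM.1⟩
  set N : Subgroup G := ⁅D, D⁆ with hN
  have hND : N ≤ D := Subgroup.commutator_le_self D
  have hsurj := QuotientGroup.mk'_surjective N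
  let inf : IrrCharacter (G ⧸ N) → IrrCharacter G := fun η =>
    ⟨(η : G ⧸ N → ℂ) ∘ QuotientGroup.mk, Char.isIrrCharacter_comp η.2 (QuotientGroup.mk' N) hsurj⟩
  have hval : ∀ g : G, ∃ m : ℕ,
      (∀ η : IrrCharacter (G ⧸ N), redC M (centralChar (inf η : G → ℂ) g) =
        redC M (m : ℂ) * redC M (centralChar (η : G ⧸ N → ℂ) (QuotientGroup.mk g))) ∧
      (N ≤ Subgroup.centralizer ({g} : Set G) →
        (Subgroup.centralizer ({(QuotientGroup.mk g : G ⧸ N)} : Set (G ⧸ N))).comap (QuotientGroup.mk' N) ≤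
          Subgroup.centralizer ({g} : Set G) → m = 1) := fun g => by
    obtain ⟨m, hm, hm1⟩ := centralChar_inflate N g
    refine ⟨m, fun η => ?_, hm1⟩
    show redC M (centralChar ((η : G ⧸ N → ℂ) ∘ QuotientGroup.mk) g) = _
    rw [hm, redC_mul (natCast_mem _ m) (centralChar_mem_locRing η _)]
  constructor
  · intro h
    refine (sameBlock_iff (χ := inf χ) (ψ := inf ψ)).2 fun g => ?_
    obtain ⟨m, hm, -⟩ := hval g
    rw [hm, hm, sameBlock_iff.1 h]
  · intro h
    refine sameBlock_of_regular hM fun q hq => ?_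
    obtain ⟨g₀, rfl⟩ := hsurj q
    obtain ⟨z, hz⟩ := exists_isPPart (p := p) g₀
    obtain ⟨s, hs, -, -, hsreg⟩ := id hz
    have hz1 : (QuotientGroup.mk' N) z = 1 :=
      (IsPPart.unique (isPPart_map (QuotientGroup.mk' N) hz) (isPPart_one_of_regular hq))
    have hgs : (QuotientGroup.mk' N) g₀ = QuotientGroup.mk s := by
      rw [← hs, map_mul, hz1, one_mul]; rfl
    rw [hgs] at hq ⊢
    by_cases hc : s ∈ Subgroup.centralizer (D : Set G)
    · obtain ⟨m, hm, hm1⟩ := hval s
      have hle : N ≤ Subgroup.centralizer ({s} : Set G) := fun x hx =>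
        Subgroup.mem_centralizer_singleton_iff.2 (Subgroup.mem_centralizer_iff.1 hc x (hND hx))
      obtain rfl : m = 1 := by
        refine hm1 hle fun u hu => ?_
        rw [Subgroup.mem_comap, Subgroup.mem_centralizer_singleton_iff, ← QuotientGroup.mk'_apply,
          ← map_mul, ← map_mul, QuotientGroup.mk'_eq_mk'] at hu
        obtain ⟨w, hw, he⟩ := hu
        have hd : w = (u * s)⁻¹ * (s * u) := eq_inv_mul_iff_mul_eq.2 he
        have hconj : u * s * u⁻¹ = s * (u * w⁻¹ * u⁻¹) := by
          rw [hd]; group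
        set z' := u * w⁻¹ * u⁻¹ with hz'
        have hzN : z' ∈ N := (inferInstance : N.Normal).conj_mem _ (inv_mem hw) u
        have hcm : Commute z' s := Subgroup.mem_centralizer_iff.1 hc z' (hND hzN)
        have hp' : IsPPart p (u * s * u⁻¹) z' := by
          rw [hconj, ← hcm.eq]
          exact isPPart_mul (isPElem_of_mem (hD.to_le hND) hzN) hsreg hcm
        have h1 : z' = u * 1 * u⁻¹ :=
          IsPPart.unique hp' (IsPPart.conj (isPPart_one_of_regular hsreg) u)
        rw [mul_one, mul_inv_cancel] at h1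
        refine Subgroup.mem_centralizer_singleton_iff.2 ?_
        rw [h1, mul_one] at hconj
        exact mul_inv_eq_iff_eq_mul.1 hconj
      have := sameBlock_iff (χ := inf χ) (ψ := inf ψ) |>.1 h s
      rwa [hm, hm, Nat.cast_one, redC_one, one_mul, one_mul] at this
    · have hDbar : IsPGroup p (D.map (QuotientGroup.mk' N)) := hD.map _
      have hnc : ¬ QuotientGroup.mk s ∈
          Subgroup.centralizer ((D.map (QuotientGroup.mk' N) : Subgroup (G ⧸ N)) : Set (G ⧸ N)) := by
        intro hmem
        refine hc (commute_of_commute_mod_derived hD hsreg fun x hx => ?_)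
        rw [← QuotientGroup.eq_one_iff]
        have := Subgroup.mem_centralizer_iff.1 hmem (QuotientGroup.mk' N x) ⟨x, hx, rfl⟩
        simp only [QuotientGroup.mk'_apply] at this
        simp only [QuotientGroup.mk_mul, QuotientGroup.mk_inv]
        rw [← this, mul_inv_cancel_right, mul_inv_cancel]
      haveI : (D.map (QuotientGroup.mk' N)).Normal := Subgroup.Normal.map inferInstance _ hsurj
      have hzero : ∀ η : IrrCharacter (G ⧸ N),
          redC M (centralChar (η : G ⧸ N → ℂ) (QuotientGroup.mk s)) = 0 := fun η => by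
        by_contra hne
        exact hnc (mem_centralizer_of_lambda hM hDbar η hne)
      rw [hzero, hzero]

end Cfsg.Agent.Lib.Block
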