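import Cfsg.Agent.Lib.Block.NormalDefect
import Cfsg.Agent.Lib.Block.FongReynolds
import Cfsg.Agent.Lib.CharClifford.Extend
import Cfsg.Agent.Lib.CharClifford.Linear
import Cfsg.Agent.Lib.Char.Ito
import Cfsg.Agent.Lib.LocalFusion.PSolvable
import Cfsg.Agent.Lib.OddLocal.PLengthOne
import Cfsg.Agent.Lib.GenStruct.PHall
import Cfsg.Agent.Lib.PLength.Basic
import Cfsg.Agent.S4492

/-!
# Heights of characters of `p`-solvable groups

The height is at most the exponent of `p` in the index of the centre of a defect group.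
-/

set_option autoImplicit false
set_option linter.unusedSectionVars false
set_option linter.style.haveILetI false

namespace Cfsg.Agent.Lib.Block.PSolvableHeight

open Cfsg Cfsg.Agent.Lib Cfsg.Agent.Lib.Block Cfsg.Agent.Lib.CharClifford

universe u

variable {p : ℕ} [Fact p.Prime]

/-- Over an invariant character of a normal `p'`-subgroup with commutative `p`-quotient the degrees
are prime to `p`. -/
theorem not_dvd_charDegree_of_over {A : Type u} [Group A] [Finite A] (N : Subgroup A) [hN : N.Normal]
    [Fintype N] (hp : ¬ p ∣ Nat.card N) {k : ℕ} (hk : N.index = p ^ k)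
    (hab : ∀ a b : A, (QuotientGroup.mk (a * b) : A ⧸ N) = QuotientGroup.mk (b * a))
    (θ : IrrCharacter N) (hinv : ∀ g : A, Char.conjChar N g (θ : N → ℂ) = θ)
    (η : IrrCharacter A) (hη : classInner (fun n : N => (η : A → ℂ) n) (θ : N → ℂ) ≠ 0) :
    ¬ p ∣ charDegree (η : A → ℂ) := by
  classical
  haveI := Fintype.ofFinite A
  have hpp : p.Prime := Fact.out
  have hcopN : Nat.Coprime N.index (Nat.card N) :=
    hk ▸ (hpp.coprime_iff_not_dvd.2 hp).pow_left k
  obtain ⟨n, σ, hσ, hσθ, hn, hdet⟩ := exists_detHom θ.2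
  haveI := hσ
  set φ : N →* ℂˣ := detHom σ with hφ
  have hord : orderOf φ ∣ Nat.card N := by
    refine orderOf_dvd_of_pow_eq_one (MonoidHom.ext fun x => ?_)
    show φ x ^ Nat.card N = 1
    rw [← map_pow, pow_card_eq_one', map_one]
  have hφinv : ∀ (g : A) (x : N), φ ⟨g * x * g⁻¹, hN.conj_mem (x : A) x.2 g⟩ = φ x := by
    intro g x
    let τ : Representation ℂ N (Fin n → ℂ) := σ.comp (MulAut.conjNormal g).toMonoidHom
    have hch : τ.character = σ.character := funext fun y => by
      show σ.character (MulAut.conjNormal g y) = σ.character y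
      rw [hσθ]
      exact (conjChar_eq_iff g).1 (hinv g) y
    haveI : τ.IsIrreducible :=
      isIrreducible_of_isIrrCharacter τ (by rw [hch]; exact Char.isIrrCharacter_character σ)
    obtain ⟨e, he⟩ := exists_linearEquiv_of_character_eq τ σ hch
    apply Units.ext
    rw [hφ, detHom_apply, detHom_apply]
    have h1 : σ x = e.toLinearMap ∘ₗ τ x ∘ₗ e.symm.toLinearMap := LinearMap.ext fun v => by
      simp only [LinearMap.comp_apply, LinearEquiv.coe_coe]
      rw [he x (e.symm v), LinearEquiv.apply_symm_apply]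
    rw [h1, LinearMap.det_conj]
    rfl
  obtain ⟨μ, hμ, -, -⟩ := exists_extension_coprime φ hφinv (hcopN.coprime_dvd_right hord)
  have hn' : (θ : N → ℂ) 1 = n := hn
  have hdeg : n = charDegree (θ : N → ℂ) := by
    rw [irr_one_eq_natCast] at hn'
    exact_mod_cast hn'.symm
  have hdvd : n ∣ Nat.card N := hdeg ▸ Char.charDegree_dvd_card θ.2
  obtain ⟨χ, hχ, hres⟩ := extends_of_det θ.2 hinv n hn' (hcopN.coprime_dvd_right hdvd) μ
    (fun x => by rw [hdet x, hμ x])
  obtain ⟨β, hβ, hβN, he⟩ :=
    gallagher_exists N θ.2 (Char.isCharacter_of_isIrr hχ) hres η.2 hη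
  obtain ⟨ψ, hψ, hψe⟩ := Char.exists_irr_deflation hβ N (fun x hx => hβN ⟨x, hx⟩)
  have hψ1 : charDegree ψ ∣ (⊤ : Subgroup (A ⧸ N)).index :=
    Char.degree_dvd_index_of_abelian (N := (⊤ : Subgroup (A ⧸ N))) hψ fun a _ b _ => by
      obtain ⟨a, rfl⟩ := QuotientGroup.mk_surjective a
      obtain ⟨b, rfl⟩ := QuotientGroup.mk_surjective b
      exact hab a b
  rw [Subgroup.index_top, Nat.dvd_one] at hψ1
  have hψv : ψ 1 = 1 := by
    rw [Char.apply_one_eq_charDegree (Char.isCharacter_of_isIrr hψ), hψ1, Nat.cast_one]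
  have h1 : (η : A → ℂ) 1 = (n : ℂ) := by
    rw [congrFun he 1, Pi.mul_apply, ← hψe 1, QuotientGroup.mk_one, hψv, one_mul]
    exact (hres 1).trans hn'
  rw [irr_one_eq_natCast] at h1
  have h2 : charDegree (η : A → ℂ) = n := by exact_mod_cast h1
  exact fun h => hp ((h2 ▸ h).trans hdvd)

/-- The degree of a character over an invariant character of `O_{p'}(G)` divides, up to a `p'`-part,
the index of the centre of a Sylow subgroup. -/
theorem factorization_charDegree_le {G : Type u} [Group G] [Fintype G] (hsolv : IsPSolvable p G)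
    (N : Subgroup G) [hN : N.Normal] [Fintype N] (hNdef : N = pPrimeCore p G) (θ : IrrCharacter N)
    (hinv : ∀ g : G, Char.conjChar N g (θ : N → ℂ) = θ) (χ : IrrCharacter G)
    (hχ : classInner (fun n : N => (χ : G → ℂ) n) (θ : N → ℂ) ≠ 0) (P : Sylow p G) :
    (charDegree (χ : G → ℂ)).factorization p ≤
      ((Subgroup.center (P : Subgroup G)).index).factorization p := by
  classical
  have hpp : p.Prime := Fact.out
  have hpN : ¬ p ∣ Nat.card N := hNdef ▸ Lib.Hall.not_dvd_card_pPrimeCore hpp
  set q := QuotientGroup.mk' N with hq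
  have hred : pPrimeCore p (G ⧸ N) = ⊥ := by
    subst hNdef
    exact OddLocal.pPrimeCore_quotient_eq_bot p
  have hsolvq : IsPSolvable p (G ⧸ N) :=
    PLength.isPSolvable_map (QuotientGroup.mk'_surjective N) hsolv
  have hC := LocalFusion.centralizer_pCore_le_of_isPSolvable hsolvq hred
  haveI : (pCore p (G ⧸ N)).Normal := Lib.Hall.pCore_normal p
  set C := Subgroup.centralizer (pCore p (G ⧸ N) : Set (G ⧸ N)) with hCdef
  haveI : C.Normal := by rw [hCdef]; infer_instance
  set A := C.comap q with hA
  haveI : A.Normal := Subgroup.Normal.comap inferInstance _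
  have hNA : N ≤ A := fun x hx => by
    rw [hA, Subgroup.mem_comap, hq, QuotientGroup.mk'_apply, (QuotientGroup.eq_one_iff x).2 hx]
    exact one_mem _
  -- the centre of `P` lies in `A`
  have hZA : (Subgroup.center (P : Subgroup G)).map (P : Subgroup G).subtype ≤ A := by
    rintro _ ⟨z, hz, rfl⟩
    rw [hA, Subgroup.mem_comap, hCdef, Subgroup.mem_centralizer_iff]
    intro y hy
    obtain ⟨w, hw, rfl⟩ :=
      Lib.Hall.pCore_le_sylow (P.mapSurjective (QuotientGroup.mk'_surjective N)) hy
    rw [Subgroup.coe_subtype, hq, ← map_mul, ← map_mul]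
    exact congrArg _ (congrArg Subtype.val (Subgroup.mem_center_iff.1 hz ⟨w, hw⟩))
  -- `A` over `N`
  set L := N.subgroupOf A with hL
  haveI : L.Normal := (inferInstance : N.Normal).subgroupOf A
  haveI := Fintype.ofFinite L
  haveI := Fintype.ofFinite A
  have hcardL : Nat.card L = Nat.card N := Nat.card_congr (Subgroup.subgroupOfEquivOfLe hNA).toEquiv
  obtain ⟨k, hk⟩ : ∃ k, L.index = p ^ k := by
    have hker : (q.comp A.subtype).ker = L := by
      rw [← MonoidHom.comap_ker, hq, QuotientGroup.ker_mk']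
      rfl
    rw [← hker, Subgroup.index_ker, MonoidHom.range_comp, Subgroup.range_subtype, hA,
      Subgroup.map_comap_eq_self_of_surjective (QuotientGroup.mk'_surjective N)]
    exact IsPGroup.iff_card.1 ((Lib.Hall.isPGroup_pCore p).to_le hC)
  have hab : ∀ a b : A, (QuotientGroup.mk (a * b) : A ⧸ L) = QuotientGroup.mk (b * a) := by
    intro a b
    rw [QuotientGroup.eq, hL, Subgroup.mem_subgroupOf]
    have ha : q a ∈ C := a.2
    have hb : q b ∈ C := b.2
    have h := Subgroup.mem_centralizer_iff.1 hb _ (hC ha)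
    have h1 : q ((((a * b)⁻¹ * (b * a) : A)) : G) = 1 := by
      rw [Subgroup.coe_mul, Subgroup.coe_inv, Subgroup.coe_mul, Subgroup.coe_mul, map_mul, map_inv,
        map_mul, map_mul, inv_mul_eq_one]
      exact h
    exact (QuotientGroup.eq_one_iff _).1 h1
  set θ' : IrrCharacter L := ⟨fun n => (θ : N → ℂ) ⟨n.1.1, n.2⟩,
    CharClifford.isIrrCharacter_comp_equiv (Subgroup.subgroupOfEquivOfLe hNA) θ.2⟩ with hθ'
  have hinv' : ∀ a : A, Char.conjChar L a (θ' : L → ℂ) = θ' := fun a => funext fun n => by
    exact congrFun (hinv a) ⟨n.1.1, n.2⟩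
  -- a constituent on `A` over `θ`
  obtain ⟨η, hη1, hη2⟩ : ∃ η : IrrCharacter A,
      classInner (fun a : A => (χ : G → ℂ) a) (η : A → ℂ) ≠ 0 ∧
      classInner (fun n : L => (η : A → ℂ) n) (θ' : L → ℂ) ≠ 0 := by
    have hexp := Char.eq_sum_classInner_smul (Char.isClassFunction_of_isCharacter
      (Char.isCharacter_restrict (Char.isCharacter_of_isIrr χ.2) A))
    by_contra! hc
    have h0 : classInner (fun n : L => (χ : G → ℂ) (n : A)) (θ' : L → ℂ) = 0 := by
      rw [show (fun n : L => (χ : G → ℂ) (n : A)) = ∑ η : IrrCharacter A,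
          classInner (fun a : A => (χ : G → ℂ) a) (η : A → ℂ) • (fun n : L => (η : A → ℂ) n) by
        funext n
        have := congrFun hexp (n : A)
        simpa [Finset.sum_apply] using this, Char.classInner_sum_left]
      refine Finset.sum_eq_zero fun η _ => ?_
      rw [Char.classInner_smul_left]
      by_cases h0 : classInner (fun a : A => (χ : G → ℂ) a) (η : A → ℂ) = 0
      · rw [h0, zero_mul]
      · rw [hc η h0, mul_zero]
    refine hχ ((CharClifford.classInner_comp_equiv (Subgroup.subgroupOfEquivOfLe hNA)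
      (fun n : N => (χ : G → ℂ) n) (θ : N → ℂ)).symm.trans h0)
  have hηp : ¬ p ∣ charDegree (η : A → ℂ) :=
    not_dvd_charDegree_of_over L (hcardL.symm ▸ hpN) hk hab θ' hinv' η hη2
  have hdvd := NormalDefect.charDegree_dvd_index_mul A χ η hη1
  have h1 : (charDegree (χ : G → ℂ)).factorization p ≤ A.index.factorization p := by
    have h := (Nat.factorization_le_iff_dvd (charDegree_pos χ).ne'
      (Nat.mul_ne_zero Subgroup.index_ne_zero_of_finite (charDegree_pos η).ne')).2 hdvd p
    rwa [Nat.factorization_mul Subgroup.index_ne_zero_of_finite (charDegree_pos η).ne',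
      Finsupp.add_apply, Nat.factorization_eq_zero_of_not_dvd hηp, add_zero] at h
  refine h1.trans ?_
  -- the index of `A` divides that of the centre
  set Z := (Subgroup.center (P : Subgroup G)).map (P : Subgroup G).subtype with hZ
  have h2 : A.index ∣ Z.index := Subgroup.index_dvd_of_le hZA
  have h3 : Z.index = (Subgroup.center (P : Subgroup G)).index * (P : Subgroup G).index :=
    Subgroup.index_map_subtype _
  have h4 := (Nat.factorization_le_iff_dvd Subgroup.index_ne_zero_of_finite
    Subgroup.index_ne_zero_of_finite).2 h2 p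
  rwa [h3, Nat.factorization_mul Subgroup.index_ne_zero_of_finite
    Subgroup.index_ne_zero_of_finite, Finsupp.add_apply,
    Nat.factorization_eq_zero_of_not_dvd P.not_dvd_index, add_zero] at h4

/-- Isomorphic groups have centres of equal index. -/
theorem center_index_congr {A B : Type*} [Group A] [Group B] (e : A ≃* B) :
    (Subgroup.center A).index = (Subgroup.center B).index := by
  have h : (Subgroup.center B).comap e.toMonoidHom = Subgroup.center A := by
    ext x
    simp only [Subgroup.mem_comap, Subgroup.mem_center_iff, MulEquiv.coe_toMonoidHom]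
    refine ⟨fun hx y => e.injective ?_, fun hx y => ?_⟩
    · rw [map_mul, map_mul]; exact hx (e y)
    · obtain ⟨y, rfl⟩ := e.surjective y
      rw [← map_mul, ← map_mul, hx y]
  rw [← h, Subgroup.index_comap_of_surjective _ e.surjective]

/-- The bound on heights, by induction on the order. -/
theorem height_le : ∀ (m : ℕ) {G : Type u} [Group G] [Finite G], Nat.card G = m →
    ∀ {M : Ideal AlgInt}, IsPModular p M → IsPSolvable p G →
    ∀ {B : Set (IrrCharacter G)}, IsPBlock M B → ∀ {P : Subgroup G}, IsDefectGroup p M B P →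
    ∀ χ ∈ B, blockHeight p B (χ : G → ℂ) ≤ ((Subgroup.center P).index).factorization p := by
  intro m
  induction m using Nat.strong_induction_on with
  | _ m IH =>
  intro G _ _ hm M hM hsolv B hB P hP χ hχ
  classical
  haveI := hM.2.1.isPrime
  haveI := Fintype.ofFinite G
  set N := pPrimeCore p G with hNdef
  haveI : N.Normal := Lib.Hall.pPrimeCore_normal p
  haveI := Fintype.ofFinite N
  have hpN : ¬ p ∣ Nat.card N := Lib.Hall.not_dvd_card_pPrimeCore hM.1
  obtain ⟨θ, hθ⟩ := exists_constituent_restrict N χ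
  set b := blockOf M (θ : N → ℂ) with hbdef
  have hb : IsPBlock M b := isPBlock_blockOf θ
  have hθb : θ ∈ b := mem_blockOf_self θ
  have hbmem : ∀ φ ∈ b, φ = θ := fun φ hφ => (eq_of_sameBlock_pPrime hM hpN hφ).symm
  set T := Char.inertia N (θ : N → ℂ) with hTdef
  have hNT : N ≤ T := Char.le_inertia N (Char.isClassFunction_of_isIrr θ.2)
  haveI := Fintype.ofFinite T
  have hT : IsStab N b T := fun g => by
    refine ⟨fun h φ hφ => ?_, fun h => ?_⟩
    · rw [hbmem φ hφ, show conjIrr N g θ = θ from Subtype.ext (h : Char.conjChar N g (θ : N → ℂ) = θ)]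
      exact hθb
    · exact congrArg Subtype.val (hbmem _ (h θ hθb))
  by_cases hTtop : T = ⊤
  · have hinv : ∀ g : G, Char.conjChar N g (θ : N → ℂ) = θ := fun g =>
      (show g ∈ T from hTtop ▸ Subgroup.mem_top g)
    obtain ⟨B₀, hB₀, hmem, -, hsyl⟩ := S4492.result p M hM hsolv N hNdef θ
      (fun g n => (Lib.Char.conjChar_apply N g _ n).symm.trans (congrFun (hinv g) n))
    have hχ₀ : χ ∈ B₀ := (hmem χ).2 hθ
    rw [eq_of_mem_of_mem hB hB₀ hχ hχ₀] at hP
    obtain ⟨S, rfl⟩ := hsyl P hP
    exact (Nat.sub_le _ _).trans (factorization_charDegree_le hsolv N hNdef θ hinv χ hθ S)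
  · have hlt : Nat.card T < m := hm ▸ lt_of_le_of_ne (Subgroup.card_le_card_group T)
      (fun h => hTtop (Subgroup.eq_top_of_card_eq T h))
    obtain ⟨ψ, hψo, he⟩ := exists_eq_indFun hb hT hNT hθb hθ
    set B' := blockOf M (ψ : T → ℂ) with hB'def
    have hB' : IsPBlock M B' := isPBlock_blockOf ψ
    have hψB : ψ ∈ B' := mem_blockOf_self ψ
    have hcov := (isOver_iff hT hNT ψ).1 hψo
    have hcov' : ∃ φ ∈ B', ∃ θ ∈ b,
        classInner (fun n : N => (φ : T → ℂ) ⟨(n : G), hNT n.2⟩) (θ : N → ℂ) ≠ 0 :=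
      ⟨ψ, hψB, hcov⟩
    have hind := exists_induced hb hT hNT hB' hψB hψo
    rw [← blockOf_eq_of_mem hB (show (⟨_, isIrr_indFun hb hT hNT hψo⟩ : IrrCharacter G) ∈ B by
      rwa [show (⟨_, isIrr_indFun hb hT hNT hψo⟩ : IrrCharacter G) = χ from
        Subtype.ext he.symm])] at hind
    obtain ⟨-, hh, hdef⟩ := defect_induced hM hb hT hNT hB' hcov' hind
    obtain ⟨D, hD⟩ := exists_isDefectGroup hM hB'
    obtain ⟨x, hx⟩ := exists_conj_defect hM hB (hdef D hD) hP
    have h := IH _ hlt rfl hM (GenStruct.PHall.isPSolvable_subgroup hsolv T) hB' hD ψ hψB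
    rw [he, hh ψ hψB]
    refine h.trans (le_of_eq (congrArg (fun n => Nat.factorization n p) ?_))
    subst hx
    exact center_index_congr ((D.equivMapOfInjective T.subtype T.subtype_injective).trans
      ((D.map T.subtype).equivMapOfInjective _ (MulAut.conj x).injective))

end Cfsg.Agent.Lib.Block.PSolvableHeight
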