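import Cfsg.Agent.S0914
import Cfsg.Agent.S0942
import Cfsg.Agent.S0947
import Cfsg.Agent.Lib.Block.Count
import Cfsg.Agent.Lib.Block.Normal
import Cfsg.Agent.Lib.Hall.Basic
import Mathlib.GroupTheory.Transfer
import Mathlib.GroupTheory.SpecificGroups.KleinFour

/-!
# Principal 2-blocks with Klein four Sylow subgroups and one class of involutions
-/

namespace Cfsg.Agent.Lib.Block

open Cfsg Cfsg.Agent.Lib
open scoped ComplexConjugate

set_option linter.unusedSectionVars false
set_option linter.style.haveILetI false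

universe u

variable {G : Type u} [Group G] [Finite G]

lemma exists_int_of_sq_eq_one {χ : G → ℂ} (hχ : IsCharacter G χ) {u : G} (hu : u * u = 1) :
    ∃ n : ℤ, χ u = (n : ℂ) := by
  obtain ⟨n, ρ, rfl⟩ := hχ
  obtain ⟨b, μ, h1, -, hc⟩ := Char.exists_eigenbasis ρ u
  have hμ : ∀ i, μ i = 1 ∨ μ i = -1 := fun i => by
    have h2 : orderOf u ∣ 2 := orderOf_dvd_of_pow_eq_one (by rw [pow_two, hu])
    obtain ⟨d, hd⟩ := h2
    have := h1 i
    refine sq_eq_one_iff.1 ?_
    rw [hd, pow_mul, this, one_pow]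
  have e := hc 1
  rw [pow_one] at e
  refine ⟨∑ i, (if μ i = 1 then 1 else -1 : ℤ), ?_⟩
  rw [e]
  push_cast
  refine Finset.sum_congr rfl fun i _ => ?_
  rcases hμ i with h | h <;> simp [h] <;> norm_num

variable (P : Sylow 2 G)

lemma sq_eq_one_of_pElem (hexp : ∀ x : P, x * x = 1) {g : G} (hg : IsPElem 2 g) : g * g = 1 := by
  haveI : Fact (Nat.Prime 2) := ⟨Nat.prime_two⟩
  obtain ⟨Q, hQ⟩ := (IsPElem.isPGroup_zpowers hg).exists_le_sylow
  obtain ⟨c, hc⟩ := MulAction.exists_smul_eq G Q P
  have hmem : c * g * c⁻¹ ∈ (P : Subgroup G) := by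
    rw [← hc]
    exact Subgroup.smul_mem_pointwise_smul g (MulAut.conj c) _ (hQ (Subgroup.mem_zpowers g))
  have h : c * g * c⁻¹ * (c * g * c⁻¹) = 1 := congrArg Subtype.val (hexp ⟨_, hmem⟩)
  rwa [conj_mul, conj_eq_one_iff] at h

variable (hP : Nat.card P = 4) (hexp : ∀ x : P, x * x = 1)
  (hone : ∀ s t : G, orderOf s = 2 → orderOf t = 2 → IsConj s t)

include hP hexp in
/-- The centraliser of an involution of `P` has a normal `2`-complement and order with `2`-part `4`. -/
lemma centralizer_facts {z : G} (hz : z ∈ (P : Subgroup G)) (hz1 : z ≠ 1) :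
    (∃ k : ℕ, (pPrimeCore 2 (Subgroup.centralizer ({z} : Set G))).index = 2 ^ k) ∧
      (Nat.card (Subgroup.centralizer ({z} : Set G))).factorization 2 = 2 := by
  classical
  haveI : Fact (Nat.Prime 2) := ⟨Nat.prime_two⟩
  set C := Subgroup.centralizer ({z} : Set G) with hC
  have hinv : ∀ a ∈ (P : Subgroup G), a⁻¹ = a := fun a ha =>
    (eq_inv_of_mul_eq_one_left (congrArg Subtype.val (hexp ⟨a, ha⟩))).symm
  have hcomm : ∀ a ∈ (P : Subgroup G), ∀ b ∈ (P : Subgroup G), a * b = b * a := by
    intro a ha b hb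
    rw [← hinv _ (mul_mem ha hb), mul_inv_rev, hinv a ha, hinv b hb]
  have hPC : (P : Subgroup G) ≤ C := fun a ha =>
    Subgroup.mem_centralizer_singleton_iff.2 (hcomm a ha z hz)
  set Q : Sylow 2 C := P.subtype hPC with hQ
  have hQcard : Nat.card (Q : Subgroup C) = 4 := by
    rw [← hP]
    exact Nat.card_congr (Subgroup.subgroupOfEquivOfLe hPC).toEquiv
  have hN : Subgroup.normalizer ((Q : Subgroup C) : Set C) ≤
      Subgroup.centralizer ((Q : Subgroup C) : Set C) := by
    intro n hn
    rw [Subgroup.mem_centralizer_iff]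
    intro w hw
    obtain ⟨u, s, hus, hcom, hup, hs⟩ := exists_isPPart (p := 2) n
    obtain ⟨humem, hsmem⟩ := exists_pow_of_parts hus hcom hup hs
    -- the 2-part lies in `Q`
    have huQ : u ∈ (Q : Subgroup C) := by
      have huN : Subgroup.zpowers u ≤ Subgroup.normalizer ((Q : Subgroup C) : Set C) :=
        Subgroup.zpowers_le.2 ((Subgroup.zpowers_le.2 hn) humem)
      have hsup : IsPGroup 2 ((Q : Subgroup C) ⊔ Subgroup.zpowers u : Subgroup C) :=
        Q.2.to_sup_of_normal_left' (IsPElem.isPGroup_zpowers hup) huN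
      rw [← Q.3 hsup le_sup_left]
      exact le_sup_right (a := (Q : Subgroup C)) (Subgroup.mem_zpowers u)
    have huw : Commute u w := Subtype.ext (hcomm (u : G) huQ (w : G) hw)
    -- the square of the conjugation is trivial
    have h2 : Commute (n * n) w := by
      set a : G := (w : G) with ha
      set b : G := (n : G) * a * (n : G)⁻¹ with hb
      have haP : a ∈ (P : Subgroup G) := hw
      have hbP : b ∈ (P : Subgroup G) := (Subgroup.mem_normalizer_iff.1 hn w).1 hw
      have hnz : Commute (n : G) z := Subgroup.mem_centralizer_singleton_iff.1 n.2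
      have key : (n : G) * b * (n : G)⁻¹ = a := by
        by_cases hab : b = a
        · have e : (n : G) * a * (n : G)⁻¹ = a := hab
          rw [hab, e]
        have ha1 : a ≠ 1 := fun h => hab (by rw [hb, h, mul_one, mul_inv_cancel])
        have haz : a ≠ z := fun h => hab (by rw [hb, h, hnz.eq, mul_inv_cancel_right])
        have hbz : b ≠ z := fun h => haz (by
          have := congrArg (fun t => (n : G)⁻¹ * t * (n : G)) h
          simpa [hb, mul_assoc, ← hnz.eq] using this)
        have hb1 : b ≠ 1 := fun h => ha1 (conj_eq_one_iff.1 h)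
        have hbza : b = z * a := by
          by_contra hne
          haveI := Fintype.ofFinite (P : Subgroup G)
          let T : Finset (P : Subgroup G) :=
            {1, ⟨z, hz⟩, ⟨a, haP⟩, ⟨b, hbP⟩, ⟨z * a, mul_mem hz haP⟩}
          have hT : T.card = 5 := by
            have e1 : z * a ≠ 1 := fun h => haz (by rw [← hinv a haP]; exact inv_eq_of_mul_eq_one_left h)
            have e2 : z * a ≠ z := fun h => ha1 (mul_eq_left.1 h)
            have e3 : z * a ≠ a := fun h => hz1 (mul_eq_right.1 h)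
            simp only [T]
            rw [Finset.card_insert_of_notMem, Finset.card_insert_of_notMem,
              Finset.card_insert_of_notMem, Finset.card_insert_of_notMem, Finset.card_singleton]
            all_goals simp only [Finset.mem_insert, Finset.mem_singleton, Subtype.ext_iff,
              Subgroup.coe_one, not_or]
            · exact fun h => hne h
            · exact ⟨fun h => hab h.symm, fun h => e3 h.symm⟩
            · exact ⟨fun h => haz h.symm, fun h => hbz h.symm, fun h => e2 h.symm⟩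
            · exact ⟨fun h => hz1 h.symm, fun h => ha1 h.symm, fun h => hb1 h.symm, fun h => e1 h.symm⟩
          have := Finset.card_le_univ T
          rw [hT, ← Nat.card_eq_fintype_card, hP] at this
          omega
        calc (n : G) * b * (n : G)⁻¹ = (n : G) * z * (n : G)⁻¹ * ((n : G) * a * (n : G)⁻¹) := by
              rw [hbza]; group
          _ = z * (z * a) := by rw [← hb, hbza, hnz.eq, mul_inv_cancel_right]
          _ = a := by rw [← mul_assoc, eq_inv_iff_mul_eq_one.1 (hinv z hz).symm, one_mul]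
      refine Subtype.ext ?_
      show (n : G) * (n : G) * a = a * ((n : G) * (n : G))
      conv_rhs => rw [← key, hb]
      group
    have hsw : Commute s w := by
      obtain ⟨m, hm⟩ := hsmem
      obtain ⟨t, ht⟩ : Odd (orderOf s) := Nat.odd_iff.2 (by omega)
      have hss : Commute (s * s) w := by
        simp only at hm
        rw [← hm, ← ((Commute.refl n).mul_zpow m)]
        exact h2.zpow_left m
      have e : s = (s * s) ^ (t + 1) := by
        rw [← pow_two, ← pow_mul, show 2 * (t + 1) = orderOf s + 1 by omega, pow_succ,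
          pow_orderOf_eq_one, one_mul]
      rw [e]
      exact hss.pow_left _
    rw [← hus]
    exact (huw.mul_left hsw).symm.eq
  have hK := MonoidHom.ker_transferSylow_isComplement' Q hN
  set K := (MonoidHom.transferSylow Q hN).ker with hKdef
  have hmul : Nat.card K * 4 = Nat.card C := by rw [← hQcard]; exact hK.card_mul
  have hodd : ¬ 2 ∣ Nat.card K := by
    intro hd
    obtain ⟨d, hd⟩ := hd
    have h8 : 2 ^ 3 ∣ Nat.card C := ⟨d, by rw [← hmul, hd]; ring⟩
    have hf := Sylow.card_eq_multiplicity Q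
    rw [hQcard] at hf
    have := (Nat.prime_two.pow_dvd_iff_le_factorization Nat.card_pos.ne').1 h8
    have h4 : (4 : ℕ) = 2 ^ 2 := rfl
    rw [h4] at hf
    have := Nat.pow_right_injective le_rfl hf
    omega
  refine ⟨?_, ?_⟩
  · have hle : K ≤ pPrimeCore 2 C :=
      Hall.le_pPrimeCore (Nat.Coprime.symm ((Nat.Prime.coprime_iff_not_dvd Nat.prime_two).2 hodd))
    have hdvd := Subgroup.index_dvd_of_le hle
    have hidx : K.index = 2 ^ 2 := by
      have := K.card_mul_index
      rw [← hmul] at this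
      exact Nat.eq_of_mul_eq_mul_left Nat.card_pos this
    rw [hidx] at hdvd
    obtain ⟨i, -, hi⟩ := (Nat.dvd_prime_pow Nat.prime_two).1 hdvd
    exact ⟨i, hi⟩
  · rw [← hmul, Nat.factorization_mul Nat.card_pos.ne' (by norm_num), Finsupp.add_apply,
      Nat.factorization_eq_zero_of_not_dvd hodd, show (4 : ℕ) = 2 ^ 2 from rfl,
      Nat.prime_two.factorization_pow, Finsupp.single_eq_same]

variable {M : Ideal AlgInt} [M.IsPrime]

include hP hexp hone in
/-- The principal block: four characters with values `±1` on the singular elements. -/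
theorem klein_principal (hM : IsPModular 2 M) :
    ∃ (S : Finset (IrrCharacter G)) (n : IrrCharacter G → ℤ),
      (∀ χ, χ ∈ S ↔ χ ∈ principalBlock M G) ∧ S.card = 4 ∧ oneIrr G ∈ S ∧ n (oneIrr G) = 1 ∧
      (∀ χ ∈ S, n χ = 1 ∨ n χ = -1) ∧
      (∀ χ ∈ S, ∀ g : G, 2 ∣ orderOf g → (χ : G → ℂ) g = (n χ : ℂ)) ∧
      (∀ y : G, ¬ 2 ∣ orderOf y → ∑ χ ∈ S, (n χ : ℂ) * (χ : G → ℂ) y = 0) ∧
      ∃ z : G, orderOf z = 2 := by
  classical
  haveI : Fact (Nat.Prime 2) := ⟨Nat.prime_two⟩
  haveI := Fintype.ofFinite G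
  obtain ⟨z₀, hz₀⟩ := exists_prime_orderOf_dvd_card' (G := P) 2 ⟨2, by rw [hP]⟩
  set z : G := (z₀ : G) with hzdef
  have hzo : orderOf z = 2 := by rw [hzdef, Subgroup.orderOf_coe]; exact hz₀
  have hz1 : z ≠ 1 := fun h => by rw [h, orderOf_one] at hzo; omega
  obtain ⟨hK, hv⟩ := centralizer_facts P hP hexp z₀.2 hz1
  have hzp : ∃ k : ℕ, orderOf z = 2 ^ k := ⟨1, by rw [hzo, pow_one]⟩
  set S : Finset (IrrCharacter G) := Finset.univ.filter (· ∈ principalBlock M G) with hS
  have hSmem : ∀ χ, χ ∈ S ↔ χ ∈ principalBlock M G := fun χ => by simp [hS]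
  choose n hn using fun χ : IrrCharacter G => exists_int_of_sq_eq_one
    (Char.isCharacter_of_isIrr χ.2) (u := z) (by rw [← pow_two, ← hzo, pow_orderOf_eq_one])
  have hsing : ∀ χ ∈ S, ∀ g : G, 2 ∣ orderOf g → (χ : G → ℂ) g = (n χ : ℂ) := by
    intro χ hχ g hg
    obtain ⟨u, s, hus, hcom, hup, hs⟩ := exists_isPPart (p := 2) g
    have hu1 : u ≠ 1 := fun h => hs (by rw [h, one_mul] at hus; rwa [hus])
    have huo : orderOf u = 2 := orderOf_eq_prime (by rw [pow_two]; exact sq_eq_one_of_pElem P hexp hup) hu1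
    obtain ⟨c, hc⟩ := isConj_iff.1 (hone u z huo hzo)
    have hcs : Commute z (c * s * c⁻¹) := by
      rw [← hc]; exact hcom.map (MulAut.conj c).toMonoidHom
    set y : Subgroup.centralizer ({z} : Set G) :=
      ⟨c * s * c⁻¹, Subgroup.mem_centralizer_singleton_iff.2 hcs.symm.eq⟩ with hy
    have hyr : ¬ 2 ∣ orderOf y := by rwa [hy, Subgroup.orderOf_mk, orderOf_conj_eq]
    obtain ⟨k, hk⟩ := hK
    have hyK := mem_of_regular_of_index (pPrimeCore 2 (Subgroup.centralizer ({z} : Set G))) hM hk hyr
    rw [← Char.isClassFunction_of_isIrr χ.2 g c, ← hn χ,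
      show c * g * c⁻¹ = z * (y : G) by
        show c * g * c⁻¹ = z * (c * s * c⁻¹)
        rw [← hus, ← hc]; group]
    exact S0942.result 2 M hM z hzp (y : G) ⟨y, hyK, rfl⟩ χ ((hSmem χ).1 hχ)
  have h1S : oneIrr G ∈ S := (hSmem _).2 oneIrr_mem
  have hn1 : n (oneIrr G) = 1 := by
    have := hn (oneIrr G)
    rw [oneIrr_apply] at this
    exact_mod_cast this.symm
  have hsum : ∑ χ ∈ S, n χ ^ 2 = 4 := by
    have h := (S0947.result 2 M hM z hzp hz1 1 regular_one).2 hK
    rw [finsum_mem_def, finsum_eq_sum_of_fintype, hv] at h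
    simp only [Set.indicator_apply, Subgroup.coe_one, mul_one] at h
    rw [← Finset.sum_filter] at h
    have h2 : ((∑ χ ∈ S, n χ ^ 2 : ℤ) : ℝ) = ((4 : ℤ) : ℝ) := by
      push_cast
      rw [show ((2 ^ 2 : ℕ) : ℝ) = 4 by norm_num] at h
      rw [← h, hS]
      refine Finset.sum_congr rfl fun χ _ => ?_
      rw [hn χ, Complex.norm_intCast, sq_abs]
    exact_mod_cast h2
  have hne : ∀ χ ∈ S, n χ ≠ 0 := by
    intro χ hχ h0
    set d := charDegree (χ : G → ℂ) with hd
    haveI := Fintype.ofFinite (P : Subgroup G)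
    have hint := isIntegral_average (G := G) (Char.isCharacter_of_isIrr χ.2)
      (S := (P : Subgroup G)) (g := 1) (fun s _ => Commute.one_left s)
    have hs : ∑ u : (P : Subgroup G), (χ : G → ℂ) (1 * (u : G)) = (d : ℂ) := by
      rw [Finset.sum_eq_single (1 : (P : Subgroup G))]
      · rw [Subgroup.coe_one, one_mul, irr_one_eq_natCast]
      · intro u _ hu
        rw [one_mul, hsing χ hχ u ?_, h0, Int.cast_zero]
        obtain ⟨k, hk⟩ := isPElem_of_mem P.2 u.2
        rcases Nat.eq_zero_or_pos k with rfl | hk0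
        · exact absurd (Subtype.ext (orderOf_eq_one_iff.1 (by simpa using hk))) hu
        · exact hk ▸ dvd_pow_self 2 hk0.ne'
      · simp
    rw [hs, hP] at hint
    have hdvd : 4 ∣ d := Char.dvd_of_isIntegral_div (by norm_num)
      (by rw [div_eq_inv_mul]; exact hint)
    have hf : 2 ≤ d.factorization 2 :=
      (Nat.prime_two.pow_dvd_iff_le_factorization (charDegree_pos χ).ne').1 (by simpa using hdvd)
    have hG : (Nat.card G).factorization 2 = 2 := by
      have := Sylow.card_eq_multiplicity P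
      rw [hP, show (4 : ℕ) = 2 ^ 2 from rfl] at this
      exact (Nat.pow_right_injective le_rfl this).symm
    have hnd : ¬ 2 ∣ Nat.card G / d := by
      intro hh
      have h0' : Nat.card G / d ≠ 0 :=
        Nat.div_ne_zero_iff.2 ⟨(charDegree_pos χ).ne', Nat.le_of_dvd Nat.card_pos (charDegree_dvd_card χ)⟩
      rw [Nat.prime_two.dvd_iff_one_le_factorization h0', Nat.factorization_div (charDegree_dvd_card χ),
        Finsupp.tsub_apply, ← hd] at hh
      omega
    have hb := (S0914.result 2 M hM χ).1 hnd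
    have : oneIrr G ∈ blockOf M (χ : G → ℂ) :=
      sameBlock_symm ((hSmem χ).1 hχ : SameBlock M (oneIrr G : G → ℂ) (χ : G → ℂ))
    rw [hb] at this
    rw [← Set.mem_singleton_iff.1 this, hn1] at h0
    exact one_ne_zero h0
  have hsq : ∀ χ ∈ S, 1 ≤ n χ ^ 2 := fun χ hχ => (sq_pos_iff.2 (hne χ hχ) : 0 < n χ ^ 2)
  have hpm : ∀ χ ∈ S, n χ = 1 ∨ n χ = -1 := by
    intro χ hχ
    by_cases h1 : χ = oneIrr G
    · left; rw [h1, hn1]
    have h3 : n χ ^ 2 ≤ 3 := by
      have h := Finset.sum_le_sum_of_subset_of_nonneg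
        (show ({χ, oneIrr G} : Finset (IrrCharacter G)) ⊆ S by
          intro x hx
          rcases Finset.mem_insert.1 hx with rfl | hx
          · exact hχ
          · exact Finset.mem_singleton.1 hx ▸ h1S)
        (f := fun x => n x ^ 2) (fun x _ _ => sq_nonneg _)
      rw [hsum, Finset.sum_pair h1, hn1] at h
      linarith
    have hlo : -1 ≤ n χ ∧ n χ ≤ 1 := ⟨by nlinarith, by nlinarith⟩
    have := hne χ hχ
    omega
  refine ⟨S, n, hSmem, ?_, h1S, hn1, hpm, hsing, ?_, z, hzo⟩
  · rw [Finset.sum_congr rfl (g := fun _ => (1 : ℤ)) fun χ hχ => by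
      rcases hpm χ hχ with h | h <;> simp [h]] at hsum
    simp only [Finset.sum_const, nsmul_eq_mul, mul_one] at hsum
    exact_mod_cast hsum
  · intro y hy
    have h := weak_orthogonality hM (B := principalBlock M G) isPBlock_principalBlock hy
      (show 2 ∣ orderOf z by rw [hzo])
    rw [← Finset.sum_filter] at h
    rw [← h, hS]
    refine Finset.sum_congr rfl fun χ _ => ?_
    rw [hn χ, map_intCast, mul_comm]

end Cfsg.Agent.Lib.Block
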