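import Cfsg.Agent.Lib.Block.CentralProduct
import Cfsg.Agent.Lib.Block.Normal
import Cfsg.Agent.Lib.CharClifford.Divides
import Cfsg.Agent.Lib.CharClifford.Correspondence
import Cfsg.Agent.Lib.Char.Scalar
import Cfsg.Agent.Lib.Char.Linear
import Cfsg.Agent.S0971

/-!
# Heights in a block with a normal defect group
-/

namespace Cfsg.Agent.Lib.Block.NormalDefect

open Cfsg Cfsg.Agent.Lib Cfsg.Agent.Lib.Block
open scoped ComplexConjugate

set_option linter.unusedSectionVars false
set_option linter.style.haveILetI false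

universe u

/-- The squared values on the defect group of a central product. -/
theorem sum_normSq_defect {p : ℕ} {M : Ideal AlgInt} [M.IsPrime] {G : Type u} [Group G] [Finite G]
    (hM : IsPModular p M) {b : Set (IrrCharacter G)} (hb : IsPBlock M b) {P : Subgroup G}
    [Fintype P] (hP : IsDefectGroup p M b P) (hG : P ⊔ Subgroup.centralizer (P : Set G) = ⊤)
    {θ₀ θ : IrrCharacter G} (hθ₀ : θ₀ ∈ b) (h₀ : ∀ q ∈ P, (θ₀ : G → ℂ) q = (θ₀ : G → ℂ) 1)
    (hθ : θ ∈ b) :
    ∑ u : P, Complex.normSq ((θ : G → ℂ) u) =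
      (Nat.card P : ℝ) * Complex.normSq ((θ₀ : G → ℂ) 1) := by
  classical
  haveI : Fact p.Prime := ⟨hM.1⟩
  haveI := normal_of_sup_centralizer hG
  haveI := Fintype.ofFinite G
  obtain ⟨hPp, -, -⟩ := IsDefectGroup.props hM hb hP
  set S : Finset G := Finset.univ.filter fun s => ¬ p ∣ orderOf s with hS
  have hCs : ∀ s ∈ S, s ∈ Subgroup.centralizer (P : Set G) := fun s hs =>
    regular_mem_centralizer hM hPp hG (Finset.mem_filter.1 hs).2
  have hpart : ∀ (u : P) (s : G), s ∈ S → IsPPart p ((u : G) * s) (u : G) := fun u s hs =>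
    ⟨s, rfl, Subgroup.mem_centralizer_iff.1 (hCs s hs) u u.2, isPElem_of_mem hPp u.2,
      (Finset.mem_filter.1 hs).2⟩
  set R : ℝ := ∑ s ∈ S, Complex.normSq ((θ₀ : G → ℂ) s) with hR
  have key : ∀ φ ∈ b, (Nat.card G : ℝ) * Complex.normSq ((θ₀ : G → ℂ) 1) =
      (∑ u : P, Complex.normSq ((φ : G → ℂ) u)) * R := by
    intro φ hφ
    have h1 : ((∑ g : G, Complex.normSq ((φ : G → ℂ) g) : ℝ) : ℂ) = (Nat.card G : ℂ) := by
      have h2 := Char.classInner_irr_self φ.2
      rw [classInner, inv_mul_eq_one₀ (Char.card_ne_zero_complex G)] at h2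
      rw [Complex.ofReal_sum, h2]
      exact Finset.sum_congr rfl fun s _ => (Complex.mul_conj _).symm
    have h1' : ∑ g : G, Complex.normSq ((φ : G → ℂ) g) = (Nat.card G : ℝ) := by exact_mod_cast h1
    have h3 : ∑ x ∈ (Finset.univ : Finset P) ×ˢ S, Complex.normSq ((φ : G → ℂ) ((x.1 : G) * x.2)) =
        ∑ g : G, Complex.normSq ((φ : G → ℂ) g) := by
      refine Finset.sum_of_injOn (fun x : P × G => (x.1 : G) * x.2) ?_ (fun x _ => by simp) ?_
        (fun x _ => rfl)
      · intro x hx y hy he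
        have he' : (x.1 : G) * x.2 = (y.1 : G) * y.2 := he
        have hu : (x.1 : G) = y.1 := IsPPart.unique (hpart x.1 x.2 (Finset.mem_product.1 hx).2)
          (he' ▸ hpart y.1 y.2 (Finset.mem_product.1 hy).2)
        exact Prod.ext (Subtype.ext hu) (mul_left_cancel (hu ▸ he'))
      · intro g _ hg
        rw [Complex.normSq_eq_zero]
        obtain ⟨z, hz⟩ := exists_isPPart (p := p) g
        refine char_eq_zero_of_not_mem hM hb hP hφ hz fun hzP => hg ?_
        obtain ⟨s, hs1, -, -, hs4⟩ := hz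
        exact ⟨(⟨z, hzP⟩, s), Finset.mem_coe.2 (Finset.mem_product.2
          ⟨Finset.mem_univ _, Finset.mem_filter.2 ⟨Finset.mem_univ _, hs4⟩⟩), hs1⟩
    rw [← h1', ← h3, Finset.sum_product, Finset.sum_mul, Finset.sum_mul]
    refine Finset.sum_congr rfl fun u _ => ?_
    rw [hR, Finset.mul_sum, Finset.sum_mul]
    refine Finset.sum_congr rfl fun s hs => ?_
    have hval : (φ : G → ℂ) ((u : G) * s) * (θ₀ : G → ℂ) 1 =
        (φ : G → ℂ) u * (θ₀ : G → ℂ) s := by
      rw [char_mul_eq_of_central_product φ hG u.2 (hCs s hs),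
        char_regular_eq hM hb hP hG hθ₀ h₀ hφ (Finset.mem_filter.1 hs).2]
      field_simp [deg_ne_zero φ, deg_ne_zero θ₀]
    rw [← Complex.normSq_mul, ← Complex.normSq_mul, hval]
  have h0 := key θ₀ hθ₀
  rw [Finset.sum_congr rfl fun (u : P) _ => by rw [h₀ u u.2], Finset.sum_const, Finset.card_univ,
    nsmul_eq_mul, ← Nat.card_eq_fintype_card] at h0
  have hd : Complex.normSq ((θ₀ : G → ℂ) 1) ≠ 0 := by
    rw [Ne, Complex.normSq_eq_zero]
    exact deg_ne_zero θ₀
  have hG0 : (Nat.card G : ℝ) = (Nat.card P : ℝ) * R := by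
    apply mul_right_cancel₀ hd
    rw [h0]; ring
  have hR0 : R ≠ 0 := fun h => Nat.cast_ne_zero.2 (Nat.card_pos (α := G)).ne'
    (show ((Nat.card G : ℕ) : ℝ) = 0 by rw [hG0, h, mul_zero])
  have h := key θ hθ
  rw [hG0] at h
  apply mul_right_cancel₀ hR0
  rw [← h]; ring

/-- The degree of a character over `θ` divides the index times the degree of `θ`. -/
theorem charDegree_dvd_index_mul {G : Type u} [Group G] [Fintype G] (N : Subgroup G) [N.Normal]
    [Fintype N] (χ : IrrCharacter G) (θ : IrrCharacter N)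
    (h : classInner (fun n : N => (χ : G → ℂ) n) (θ : N → ℂ) ≠ 0) :
    charDegree (χ : G → ℂ) ∣ N.index * charDegree (θ : N → ℂ) := by
  classical
  set T := Char.inertia N (θ : N → ℂ) with hT
  have hNT : N ≤ T := Char.le_inertia N (Char.isClassFunction_of_isIrr θ.2)
  haveI := Fintype.ofFinite T
  haveI := Fintype.ofFinite (N.subgroupOf T)
  obtain ⟨ψ, hψ, hind, hmult, -⟩ := CharClifford.exists_correspondent N θ.2 T rfl hNT χ.2 h
  have hθ' : IsIrrCharacter (N.subgroupOf T) (fun n => (θ : N → ℂ) ⟨n.1.1, n.2⟩) :=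
    CharClifford.isIrrCharacter_comp_equiv (Subgroup.subgroupOfEquivOfLe hNT) θ.2
  obtain ⟨e, he⟩ := Char.classInner_natCast
    (Char.isCharacter_restrict (Char.isCharacter_of_isIrr hψ) (N.subgroupOf T))
    (Char.isCharacter_of_isIrr hθ')
  have hover : classInner (fun n : N.subgroupOf T => ψ n)
      (fun n => (θ : N → ℂ) ⟨n.1.1, n.2⟩) ≠ 0 := by
    have h1 := CharClifford.classInner_comp_equiv (Subgroup.subgroupOfEquivOfLe hNT)
      (CharClifford.resLe hNT ψ) (θ : N → ℂ)
    rw [hmult] at h1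
    exact fun h0 => h (h1.symm.trans h0)
  have hc := Char.clifford (N.subgroupOf T) hψ hθ' hover
  have hinv : ∀ t : T, Char.conjChar (N.subgroupOf T) t (fun n => (θ : N → ℂ) ⟨n.1.1, n.2⟩) =
      fun n => (θ : N → ℂ) ⟨n.1.1, n.2⟩ := fun t => funext fun n =>
    congrFun (t.2 : Char.conjChar N (t : G) (θ : N → ℂ) = θ) ⟨n.1.1, n.2⟩
  have horb : Char.orbit (N.subgroupOf T) (fun n => (θ : N → ℂ) ⟨n.1.1, n.2⟩) =
      {fun n => (θ : N → ℂ) ⟨n.1.1, n.2⟩} := by
    ext x
    rw [Char.mem_orbit, Finset.mem_singleton]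
    exact ⟨fun ⟨g, hg⟩ => hg ▸ hinv g, fun hx => ⟨1, by rw [hinv, hx]⟩⟩
  rw [he, horb, Finset.sum_singleton] at hc
  have hdvd : e ∣ (N.subgroupOf T).index :=
    CharClifford.ramification_dvd_index (N.subgroupOf T) hψ hθ' e fun n => congrFun hc n
  have hψ1 : ψ 1 = (e : ℂ) * (θ : N → ℂ) 1 := congrFun hc 1
  have hdeg : charDegree (χ : G → ℂ) = T.index * (e * charDegree (θ : N → ℂ)) := by
    have h1 : (χ : G → ℂ) 1 = (T.index : ℂ) * ((e : ℂ) * (θ : N → ℂ) 1) := by
      rw [← hind, Char.indFun_one, hψ1]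
    rw [irr_one_eq_natCast, irr_one_eq_natCast] at h1
    exact_mod_cast h1
  rw [hdeg, ← Subgroup.relIndex_mul_index hNT, show N.relIndex T = (N.subgroupOf T).index from rfl]
  obtain ⟨c, hc'⟩ := hdvd
  exact ⟨c, by rw [hc']; ring⟩

/-- Heights are all zero exactly when the normal defect group is commutative. -/
theorem abelian_iff_height_zero {p : ℕ} {M : Ideal AlgInt} {G : Type u} [Group G] [Finite G]
    [hp : Fact p.Prime] (hM : IsPModular p M) {B : Set (IrrCharacter G)} (hB : IsPBlock M B)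
    {P : Subgroup G} [P.Normal] (hP : IsDefectGroup p M B P) :
    (∀ a ∈ P, ∀ c ∈ P, a * c = c * a) ↔ ∀ χ ∈ B, blockHeight p B (χ : G → ℂ) = 0 := by
  classical
  haveI := hM.2.1.isPrime
  haveI := Fintype.ofFinite G
  obtain ⟨hPp, hPc, -⟩ := IsDefectGroup.props hM hB hP
  set N := P ⊔ Subgroup.centralizer (P : Set G) with hN
  haveI : N.Normal := by rw [hN]; infer_instance
  haveI := Fintype.ofFinite N
  have hPN : P ≤ N := le_sup_left
  set PN := P.subgroupOf N with hPNdef
  haveI := Fintype.ofFinite PN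
  have hPNp : IsPGroup p PN := hPp.comap_of_injective _ (Subgroup.subtype_injective _)
  have hGN : PN ⊔ Subgroup.centralizer (PN : Set N) = ⊤ := by
    rw [eq_top_iff]
    intro n _
    obtain ⟨u, hu, c, hc, huc⟩ := Subgroup.mem_sup_of_normal_left.1
      (n.2 : (n : G) ∈ P ⊔ Subgroup.centralizer (P : Set G))
    rw [show n = (⟨u, hPN hu⟩ : N) * ⟨c, Subgroup.mem_sup_right hc⟩ from Subtype.ext huc.symm]
    refine Subgroup.mul_mem_sup (Subgroup.mem_subgroupOf.2 hu) (Subgroup.mem_centralizer_iff.2 ?_)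
    exact fun y hy => Subtype.ext
      (Subgroup.mem_centralizer_iff.1 hc y (Subgroup.mem_subgroupOf.1 hy))
  obtain ⟨χ₀, hχ₀, hh₀⟩ := exists_height_zero hB p
  have hd := blockDefect_eq_of_min hχ₀ hh₀
  have hvG : (Nat.card G).factorization p =
      (Nat.card N).factorization p + N.index.factorization p := by
    rw [← Subgroup.card_mul_index N, Nat.factorization_mul Nat.card_pos.ne'
      Subgroup.index_ne_zero_of_finite, Finsupp.add_apply]
  have hcPN : Nat.card PN = p ^ blockDefect p B := by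
    rw [hPNdef, Nat.card_congr (Subgroup.subgroupOfEquivOfLe hPN).toEquiv, hPc]
  have hdle : blockDefect p B ≤ (Nat.card N).factorization p :=
    (hM.1.pow_dvd_iff_le_factorization Nat.card_pos.ne').1 (hcPN ▸ Subgroup.card_subgroup_dvd_card _)
  -- the blocks of `N` under `B`
  have setup : ∀ χ ∈ B, ∀ θ : IrrCharacter N,
      classInner (fun n : N => (χ : G → ℂ) n) (θ : N → ℂ) ≠ 0 →
      ∃ (b : Set (IrrCharacter N)) (θ₀ : IrrCharacter N), IsPBlock M b ∧ θ ∈ b ∧
        IsInducedBlock M N b B ∧ IsDefectGroup p M b PN ∧ θ₀ ∈ b ∧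
        (∀ q ∈ PN, (θ₀ : N → ℂ) q = (θ₀ : N → ℂ) 1) ∧
        (charDegree (θ₀ : N → ℂ)).factorization p + blockDefect p B =
          (Nat.card N).factorization p := by
    intro χ hχ θ hθ
    have hb : IsPBlock M (blockOf M (θ : N → ℂ)) := isPBlock_blockOf θ
    set b := blockOf M (θ : N → ℂ) with hbdef
    have hind : IsInducedBlock M N b B :=
      (S0971.result p M hM P hPp b hb).2 B hB ⟨χ, hχ, θ, mem_blockOf_self θ, hθ⟩
    obtain ⟨E, hE⟩ := exists_isDefectGroup hM hb
    have hle := le_defect_of_normal hM hb hPNp hE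
    obtain ⟨E', hE', hle'⟩ := exists_defect_ge_of_induced hM hind hE
    obtain ⟨x, hx⟩ := exists_conj_defect hM hB hP hE'
    have hP' : E' = P := by
      rw [← hx]
      refine map_eq_of_le_of_card_le ?_ le_rfl
      rintro _ ⟨u, hu, rfl⟩
      exact (inferInstance : P.Normal).conj_mem u hu x
    have hEeq : E = PN := le_antisymm (fun e he => Subgroup.mem_subgroupOf.2 (by
      have := hle' ⟨e, he, rfl⟩
      rwa [hP'] at this)) hle
    subst hEeq
    obtain ⟨θ₀, hθ₀, h₀⟩ := exists_mem_trivial_on hM hPNp hb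
    obtain ⟨-, hh, -⟩ := exists_deflation_defect_zero hM hb hE hθ₀ h₀
    refine ⟨b, θ₀, hb, mem_blockOf_self θ, hind, hE, hθ₀, h₀, ?_⟩
    have h1 := blockDefect_eq_of_min hθ₀ hh
    have h2 : blockDefect p b = blockDefect p B := by
      obtain ⟨-, hc, -⟩ := IsDefectGroup.props hM hb hE
      exact Nat.pow_right_injective hM.1.two_le (hc.symm.trans hcPN)
    have h3 := factorization_charDegree_le θ₀ p
    omega
  -- degrees of members above a character of `N`
  have hheight : ∀ χ ∈ B, blockHeight p B (χ : G → ℂ) = 0 ↔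
      (charDegree (χ : G → ℂ)).factorization p + blockDefect p B ≤ (Nat.card G).factorization p := by
    intro χ hχ
    have h1 := le_of_height_zero hh₀ hχ
    have h2 := factorization_charDegree_le χ₀ p
    constructor
    · intro h
      have h3 := le_of_height_zero h hχ₀
      omega
    · intro h
      rw [blockHeight, Nat.sub_eq_zero_iff_le]
      refine le_csInf ⟨_, χ₀, hχ₀, rfl⟩ ?_
      rintro _ ⟨η, hη, rfl⟩
      have := le_of_height_zero hh₀ hη
      dsimp only
      omega
  constructor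
  · intro hab χ hχ
    obtain ⟨θ, hθ⟩ := exists_constituent_restrict N χ
    obtain ⟨b, θ₀, hb, hθb, -, hE, hθ₀, h₀, hv⟩ := setup χ hχ θ hθ
    have hcen : ∀ q ∈ PN, q ∈ Subgroup.center N := by
      intro q hq
      rw [Subgroup.mem_center_iff]
      intro n
      obtain ⟨u, hu, c, hc, huc⟩ := Subgroup.mem_sup_of_normal_left.1
        (n.2 : (n : G) ∈ P ⊔ Subgroup.centralizer (P : Set G))
      refine Subtype.ext ?_
      have hqP : (q : G) ∈ P := Subgroup.mem_subgroupOf.1 hq
      have e1 := hab u hu q hqP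
      have e2 := Subgroup.mem_centralizer_iff.1 hc q hqP
      simp only [Subgroup.coe_mul, ← huc]
      rw [mul_assoc, ← e2, ← mul_assoc, e1, mul_assoc]
    have hsum := sum_normSq_defect hM hb hE hGN hθ₀ h₀ hθb
    have hconst : ∀ q : PN, Complex.normSq ((θ : N → ℂ) q) = Complex.normSq ((θ : N → ℂ) 1) := by
      intro q
      have h1 := Char.norm_char_of_mem_center θ.2 (hcen q q.2)
      rw [Complex.normSq_eq_norm_sq, Complex.normSq_eq_norm_sq, h1]
    rw [Finset.sum_congr rfl fun q _ => hconst q, Finset.sum_const, Finset.card_univ, nsmul_eq_mul,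
      ← Nat.card_eq_fintype_card] at hsum
    have hdeg : charDegree (θ : N → ℂ) = charDegree (θ₀ : N → ℂ) := by
      have h1 := mul_left_cancel₀ (Nat.cast_ne_zero.2 (Nat.card_pos (α := PN)).ne') hsum
      rw [irr_one_eq_natCast, irr_one_eq_natCast, Complex.normSq_natCast, Complex.normSq_natCast,
        ← Nat.cast_mul, ← Nat.cast_mul, Nat.cast_inj] at h1
      exact Nat.mul_self_inj.1 h1
    rw [hheight χ hχ]
    have h2 := (Nat.factorization_le_iff_dvd (charDegree_pos χ).ne'
      (mul_ne_zero Subgroup.index_ne_zero_of_finite (charDegree_pos θ).ne')).2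
      (charDegree_dvd_index_mul N χ θ hθ) p
    rw [Nat.factorization_mul Subgroup.index_ne_zero_of_finite (charDegree_pos θ).ne',
      Finsupp.add_apply, hdeg] at h2
    omega
  · intro hall
    by_contra hab
    push Not at hab
    obtain ⟨a, ha, c, hc, hac⟩ := hab
    obtain ⟨θ', hθ'⟩ := exists_constituent_restrict N χ₀
    obtain ⟨b, θ₀, hb, -, hind, hE, hθ₀, h₀, hv⟩ := setup χ₀ hχ₀ θ' hθ'
    -- every character over a member of `b` lies in `B`
    have hmemB : ∀ (ψ : IrrCharacter G) (φ : IrrCharacter N), φ ∈ b →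
        classInner (fun n : N => (ψ : G → ℂ) n) (φ : N → ℂ) ≠ 0 → ψ ∈ B := by
      intro ψ φ hφ hne
      have h1 : IsInducedBlock M N b (blockOf M (ψ : G → ℂ)) :=
        (S0971.result p M hM P hPp b hb).2 _ (isPBlock_blockOf ψ)
          ⟨ψ, mem_blockOf_self ψ, φ, hφ, hne⟩
      refine (mem_iff_sameBlock hB hχ₀).2 (sameBlock_iff.2 fun g => ?_)
      rw [← (isInducedBlock_iff.1 hind).2.2 φ hφ χ₀ hχ₀ g,
        ← (isInducedBlock_iff.1 h1).2.2 φ hφ ψ (mem_blockOf_self ψ) g]
    set T₀ := Char.inertia N (θ₀ : N → ℂ) with hT₀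
    have hNT : N ≤ T₀ := Char.le_inertia N (Char.isClassFunction_of_isIrr θ₀.2)
    have hTpos : N.relIndex T₀ ≠ 0 := fun h0 => by
      have := Subgroup.relIndex_mul_index hNT
      rw [h0, zero_mul] at this
      exact Subgroup.index_ne_zero_of_finite this.symm
    have hidx : N.index.factorization p =
        (N.relIndex T₀).factorization p + T₀.index.factorization p := by
      rw [← Subgroup.relIndex_mul_index hNT, Nat.factorization_mul hTpos
        Subgroup.index_ne_zero_of_finite, Finsupp.add_apply]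
    -- the stabiliser has index prime to `p` over `N`
    have hT : (N.relIndex T₀).factorization p = 0 := by
      set e := (N.relIndex T₀).factorization p with he
      choose m hm using fun ψ : IrrCharacter G => Char.classInner_natCast
        (Char.isCharacter_restrict (Char.isCharacter_of_isIrr ψ.2) N)
        (Char.isCharacter_of_isIrr θ₀.2)
      have hmv : ∀ ψ : IrrCharacter G, m ψ ≠ 0 → p ^ e ∣ m ψ := by
        intro ψ hm0
        have hne : classInner (fun n : N => (ψ : G → ℂ) n) (θ₀ : N → ℂ) ≠ 0 := by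
          rw [hm]; exact_mod_cast hm0
        have hψB := hmemB ψ θ₀ hθ₀ hne
        have hψ1 : charDegree (ψ : G → ℂ) = m ψ * T₀.index * charDegree (θ₀ : N → ℂ) := by
          have h1 := Char.clifford_degree N ψ.2 θ₀.2 hne
          rw [hm, irr_one_eq_natCast, irr_one_eq_natCast] at h1
          exact_mod_cast h1
        have hh := (hheight ψ hψB).1 (hall ψ hψB)
        have hlow := le_of_height_zero hh₀ hψB
        have h4 := factorization_charDegree_le χ₀ p
        rw [hψ1, Nat.factorization_mul (mul_ne_zero hm0 Subgroup.index_ne_zero_of_finite)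
          (charDegree_pos θ₀).ne', Nat.factorization_mul hm0 Subgroup.index_ne_zero_of_finite,
          Finsupp.add_apply, Finsupp.add_apply] at hlow hh
        exact (hM.1.pow_dvd_iff_le_factorization hm0).2 (by omega)
      have hsum : ∑ ψ : IrrCharacter G, m ψ ^ 2 = N.relIndex T₀ := by
        have h1 := Char.classInner_indFun_self N θ₀.2
        have hexp : indFun N (θ₀ : N → ℂ) = ∑ ψ : IrrCharacter G, (m ψ : ℂ) • (ψ : G → ℂ) := by
          conv_lhs => rw [Char.eq_sum_classInner_smul (Char.isClassFunction_indFun N _)]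
          refine Finset.sum_congr rfl fun ψ _ => ?_
          rw [Char.classInner_conj_symm,
            Char.classInner_indFun_right N _ (Char.isClassFunction_of_isIrr ψ.2), hm, map_natCast]
        have h2 : classInner (indFun N (θ₀ : N → ℂ)) (indFun N (θ₀ : N → ℂ)) =
            ((∑ ψ : IrrCharacter G, m ψ ^ 2 : ℕ) : ℂ) := by
          rw [hexp, Char.classInner_sum_left, Nat.cast_sum]
          refine Finset.sum_congr rfl fun ψ _ => ?_
          rw [Char.classInner_smul_left, Char.classInner_sum_right, Finset.sum_eq_single ψ]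
          · rw [Char.classInner_smul_right, Char.classInner_irr_self ψ.2, mul_one, map_natCast,
              Nat.cast_pow, sq]
          · intro φ _ hφ
            rw [Char.classInner_smul_right, Char.classInner_irr_ne ψ.2 φ.2 fun e =>
              hφ (Subtype.ext e).symm, mul_zero]
          · exact fun hn => absurd (Finset.mem_univ ψ) hn
        rw [h2, ← hT₀, ← Subgroup.card_mul_index (N.subgroupOf T₀),
          Nat.card_congr (Subgroup.subgroupOfEquivOfLe hNT).toEquiv, Nat.cast_mul, ← mul_assoc,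
          inv_mul_cancel₀ (Char.card_ne_zero_complex N), one_mul] at h1
        exact_mod_cast h1
      have h2e : p ^ (2 * e) ∣ N.relIndex T₀ := by
        rw [← hsum]
        refine Finset.dvd_sum fun ψ _ => ?_
        by_cases hm0 : m ψ = 0
        · rw [hm0]; simp
        · rw [mul_comm, pow_mul]
          exact pow_dvd_pow_of_dvd (hmv ψ hm0) 2
      have h := (hM.1.pow_dvd_iff_le_factorization hTpos).1 h2e
      omega
    -- a commutator and a member of `b` not trivial at it
    set w : N := ⟨a * c * a⁻¹ * c⁻¹, hPN (mul_mem (mul_mem (mul_mem ha hc) (inv_mem ha)) (inv_mem hc))⟩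
      with hw
    have hwP : w ∈ PN := Subgroup.mem_subgroupOf.2
      (mul_mem (mul_mem (mul_mem ha hc) (inv_mem ha)) (inv_mem hc))
    have hwne : w ≠ 1 := fun h1 => hac (by
      have h2 : a * c * a⁻¹ * c⁻¹ = 1 := congrArg Subtype.val h1
      rwa [mul_inv_eq_one, mul_inv_eq_iff_eq_mul] at h2)
    obtain ⟨θ, hθb, hθne⟩ : ∃ θ ∈ b, (θ : N → ℂ) w ≠ (θ : N → ℂ) 1 := by
      by_contra! hcon
      have hsing : p ∣ orderOf w := by
        obtain ⟨k, hk⟩ := hPNp ⟨w, hwP⟩
        obtain ⟨j, -, hj⟩ := (Nat.dvd_prime_pow hM.1).1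
          (orderOf_dvd_of_pow_eq_one (show w ^ p ^ k = 1 from congrArg Subtype.val hk))
        rcases Nat.eq_zero_or_pos j with rfl | hj0
        · exact absurd (orderOf_eq_one_iff.1 (by simpa using hj)) hwne
        · exact hj ▸ dvd_pow_self p hj0.ne'
      have h := weak_orthogonality hM hb (x := (1 : N)) (y := w) regular_one hsing
      have h2 : ∑ φ : IrrCharacter N, (if φ ∈ b then charDegree (φ : N → ℂ) ^ 2 else 0) = 0 := by
        have h3 : ((∑ φ : IrrCharacter N, (if φ ∈ b then charDegree (φ : N → ℂ) ^ 2 else 0) : ℕ) : ℂ)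
            = 0 := by
          rw [← h, Nat.cast_sum]
          refine Finset.sum_congr rfl fun φ _ => ?_
          split_ifs with hφ
          · rw [hcon φ hφ, irr_one_eq_natCast, map_natCast, Nat.cast_pow, sq]
          · exact Nat.cast_zero
        exact_mod_cast h3
      have h4 := Finset.sum_eq_zero_iff.1 h2 θ₀ (Finset.mem_univ _)
      rw [if_pos hθ₀] at h4
      exact (pow_pos (charDegree_pos θ₀) 2).ne' h4
    -- its degree
    have hθv : (charDegree (θ₀ : N → ℂ)).factorization p < (charDegree (θ : N → ℂ)).factorization p := by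
      haveI : PN.Normal := normal_of_sup_centralizer hGN
      obtain ⟨l, hl⟩ := exists_constituent_restrict PN θ
      obtain ⟨n, hn⟩ := Char.classInner_natCast
        (Char.isCharacter_restrict (Char.isCharacter_of_isIrr θ.2) PN) (Char.isCharacter_of_isIrr l.2)
      have hcl := Char.clifford PN θ.2 l.2 hl
      have horb : Char.orbit PN (l : PN → ℂ) = {(l : PN → ℂ)} := by
        ext x
        rw [Char.mem_orbit, Finset.mem_singleton]
        refine ⟨?_, fun hx => ⟨1, by rw [Char.conjChar_one, hx]⟩⟩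
        rintro ⟨g, rfl⟩
        obtain ⟨u, hu, d, hd', rfl⟩ := exists_mul_of_sup_centralizer hGN g
        rw [Char.conjChar_mul, Char.conjChar_of_mem PN (Char.isClassFunction_of_isIrr l.2) hu]
        funext q
        rw [Char.conjChar_apply]
        refine congrArg (l : PN → ℂ) (Subtype.ext ?_)
        show d * (q : N) * d⁻¹ = q
        rw [← Subgroup.mem_centralizer_iff.1 hd' q q.2, mul_inv_cancel_right]
      rw [horb, Finset.sum_singleton, hn] at hcl
      have hsum := sum_normSq_defect hM hb hE hGN hθ₀ h₀ hθb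
      have hn0 : n = charDegree (θ₀ : N → ℂ) := by
        have h1 : ((∑ u : PN, Complex.normSq ((θ : N → ℂ) u) : ℝ) : ℂ) =
            (Nat.card PN : ℂ) * ((n : ℂ) * (n : ℂ)) := by
          have h2 : classInner (fun u : PN => (θ : N → ℂ) u) (fun u : PN => (θ : N → ℂ) u) =
              (n : ℂ) * (n : ℂ) := by
            rw [hcl, Char.classInner_smul_left, Char.classInner_smul_right,
              Char.classInner_irr_self l.2, mul_one, map_natCast]
          rw [← h2, classInner, ← mul_assoc, mul_inv_cancel₀ (Char.card_ne_zero_complex PN), one_mul,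
            Complex.ofReal_sum]
          exact Finset.sum_congr rfl fun s _ => (Complex.mul_conj _).symm
        rw [hsum, irr_one_eq_natCast, Complex.normSq_natCast, Complex.ofReal_mul, Complex.ofReal_mul,
          Complex.ofReal_natCast, Complex.ofReal_natCast] at h1
        have h3 := mul_left_cancel₀ (Char.card_ne_zero_complex PN) h1
        rw [← Nat.cast_mul, ← Nat.cast_mul, Nat.cast_inj] at h3
        exact (Nat.mul_self_inj.1 h3).symm
      have hl1 : (l : PN → ℂ) 1 = (charDegree (l : PN → ℂ) : ℂ) := irr_one_eq_natCast l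
      have hdegθ : charDegree (θ : N → ℂ) = n * charDegree (l : PN → ℂ) := by
        have h1 : (θ : N → ℂ) 1 = (n : ℂ) * (l : PN → ℂ) 1 := congrFun hcl 1
        rw [irr_one_eq_natCast, hl1] at h1
        exact_mod_cast h1
      have hlne : charDegree (l : PN → ℂ) ≠ 1 := by
        intro h1
        obtain ⟨lam, hlam⟩ := Char.exists_hom_of_degree_one (Char.isCharacter_of_isIrr l.2)
          (by rw [hl1, h1, Nat.cast_one])
        apply hθne
        have e1 : (θ : N → ℂ) w = (n : ℂ) * (l : PN → ℂ) ⟨w, hwP⟩ := congrFun hcl ⟨w, hwP⟩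
        have e2 : (θ : N → ℂ) 1 = (n : ℂ) * (l : PN → ℂ) 1 := congrFun hcl 1
        rw [e1, e2, hlam, hlam]
        congr 2
        rw [map_one, show (⟨w, hwP⟩ : PN) = (⟨⟨a, hPN ha⟩, Subgroup.mem_subgroupOf.2 ha⟩ : PN) *
          ⟨⟨c, hPN hc⟩, Subgroup.mem_subgroupOf.2 hc⟩ * (⟨⟨a, hPN ha⟩, Subgroup.mem_subgroupOf.2 ha⟩ : PN)⁻¹ *
          (⟨⟨c, hPN hc⟩, Subgroup.mem_subgroupOf.2 hc⟩ : PN)⁻¹ from rfl, map_mul, map_mul, map_mul,
          map_inv, map_inv, mul_comm (lam _) (lam _), mul_inv_cancel_right, mul_inv_cancel]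
      have hlp : 1 ≤ (charDegree (l : PN → ℂ)).factorization p := by
        have h1 := Char.irr_degree_dvd_card l.2 hl1
        rw [hcPN] at h1
        obtain ⟨i, -, hi⟩ := (Nat.dvd_prime_pow hM.1).1 h1
        rw [hi, hM.1.factorization_pow, Finsupp.single_eq_same]
        exact Nat.one_le_iff_ne_zero.2 fun h0 => hlne (by rw [hi, h0, pow_zero])
      rw [hdegθ, hn0, Nat.factorization_mul (charDegree_pos θ₀).ne' (charDegree_pos l).ne',
        Finsupp.add_apply]
      omega
    have hsub : Char.inertia N (θ : N → ℂ) ≤ T₀ := by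
      intro g hg
      have hg' : Char.conjChar N g (θ : N → ℂ) = θ := hg
      have h1 : SameBlock M (θ : N → ℂ) (conjIrr N g θ₀ : N → ℂ) := by
        have h2 := sameBlock_conjIrr N g (sameBlock_of_mem hb hθb hθ₀)
        rwa [show conjIrr N g θ = θ from Subtype.ext hg'] at h2
      have htriv : ∀ q ∈ PN, (conjIrr N g θ₀ : N → ℂ) q = (conjIrr N g θ₀ : N → ℂ) 1 := by
        intro q hq
        show Char.conjChar N g (θ₀ : N → ℂ) q = Char.conjChar N g (θ₀ : N → ℂ) 1
        rw [Char.conjChar_apply_one, Char.conjChar_apply]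
        exact h₀ _ (Subgroup.mem_subgroupOf.2
          ((inferInstance : P.Normal).conj_mem _ (Subgroup.mem_subgroupOf.1 hq) g))
      have := eq_of_trivial_on hM hb hE hGN hθ₀ ((mem_iff_sameBlock hb hθb).2 h1) h₀ htriv
      exact congrArg Subtype.val this
    obtain ⟨ψ, hψ⟩ := Char.exists_irr_over (G := G) (N := N) θ.2
    have hψB := hmemB ψ θ hθb hψ
    obtain ⟨k, hk⟩ := Char.classInner_natCast
      (Char.isCharacter_restrict (Char.isCharacter_of_isIrr ψ.2) N) (Char.isCharacter_of_isIrr θ.2)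
    have hk0 : k ≠ 0 := fun h0 => hψ (by rw [hk, h0, Nat.cast_zero])
    have hψ1 : charDegree (ψ : G → ℂ) =
        k * (Char.inertia N (θ : N → ℂ)).index * charDegree (θ : N → ℂ) := by
      have h1 := Char.clifford_degree N ψ.2 θ.2 hψ
      rw [hk, irr_one_eq_natCast, irr_one_eq_natCast] at h1
      exact_mod_cast h1
    have hh := (hheight ψ hψB).1 (hall ψ hψB)
    rw [hψ1, Nat.factorization_mul (mul_ne_zero hk0 Subgroup.index_ne_zero_of_finite)
      (charDegree_pos θ).ne', Nat.factorization_mul hk0 Subgroup.index_ne_zero_of_finite,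
      Finsupp.add_apply, Finsupp.add_apply] at hh
    have h5 := (Nat.factorization_le_iff_dvd (Subgroup.index_ne_zero_of_finite (H := T₀))
      Subgroup.index_ne_zero_of_finite).2 (Subgroup.index_dvd_of_le hsub) p
    omega

end Cfsg.Agent.Lib.Block.NormalDefect
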