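import Cfsg.Agent.Lib.Block.Dominate
import Cfsg.Agent.Lib.Block.DefectTwo
import Cfsg.Agent.Lib.Block.CentralProduct
import Cfsg.Agent.Lib.BrauerPairs.Correspondence
import Cfsg.Agent.Lib.BrauerPairs.CentPairs
import Cfsg.Agent.Lib.BrauerPairs.Maximal
import Cfsg.Agent.Lib.BrauerPairs.Descent

/-!
# A criterion for maximal Brauer pairs
-/

set_option autoImplicit false
set_option linter.unusedSectionVars false
set_option linter.style.haveILetI false

namespace Cfsg.Agent.Lib.Block

open Cfsg Cfsg.Agent.Lib.BrauerPairs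

universe u

variable {p : ℕ} {M : Ideal AlgInt} [M.IsPrime] {G : Type u} [Group G] [Finite G]

/-- A central `p`-subgroup does not separate blocks. -/
theorem sameBlock_inflate_central (hM : IsPModular p M) {H : Type u} [Group H] [Finite H]
    {Z : Subgroup H} [Z.Normal] (hZ : IsPGroup p Z) (hc : Z ≤ Subgroup.center H)
    (η ψ : IrrCharacter (H ⧸ Z))
    (h : SameBlock M (inflate Z η : H → ℂ) (inflate Z ψ : H → ℂ)) :
    SameBlock M (η : H ⧸ Z → ℂ) (ψ : H ⧸ Z → ℂ) := by
  haveI : Fact p.Prime := ⟨hM.1⟩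
  refine sameBlock_of_regular hM fun q hq => ?_
  obtain ⟨g₀, rfl⟩ := QuotientGroup.mk'_surjective Z q
  obtain ⟨z, hz⟩ := exists_isPPart (p := p) g₀
  obtain ⟨s, hs, -, -, hsreg⟩ := id hz
  have hz1 : (QuotientGroup.mk' Z) z = 1 :=
    (IsPPart.unique (isPPart_map (QuotientGroup.mk' Z) hz) (isPPart_one_of_regular hq))
  have hgs : (QuotientGroup.mk' Z) g₀ = QuotientGroup.mk s := by
    rw [← hs, map_mul, hz1, one_mul]; rfl
  rw [hgs]
  have hm1 : (Subgroup.centralizer ({s} : Set H)).relIndex (centPre Z s) = 1 := by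
    rw [Subgroup.relIndex_eq_one]
    intro u hu
    rw [centPre, Subgroup.mem_comap, Subgroup.mem_centralizer_singleton_iff, ← QuotientGroup.mk'_apply,
      ← map_mul, ← map_mul, QuotientGroup.mk'_eq_mk'] at hu
    obtain ⟨w, hw, he⟩ := hu
    have hwc := Subgroup.mem_center_iff.1 (hc hw)
    have hcm : Commute w⁻¹ s := (Commute.inv_left (hwc s).symm)
    have hconj : u * s * u⁻¹ = w⁻¹ * s := by
      rw [mul_inv_eq_iff_eq_mul, mul_assoc, ← he, hwc (u * s), inv_mul_cancel_left]
    have hp' : IsPPart p (u * s * u⁻¹) w⁻¹ := by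
      rw [hconj]
      exact isPPart_mul (isPElem_of_mem hZ (inv_mem hw)) hsreg hcm
    have h1 : w⁻¹ = u * 1 * u⁻¹ :=
      IsPPart.unique hp' (IsPPart.conj (isPPart_one_of_regular hsreg) u)
    rw [mul_one, mul_inv_cancel] at h1
    refine Subgroup.mem_centralizer_singleton_iff.2 ?_
    rw [h1, one_mul] at hconj
    exact mul_inv_eq_iff_eq_mul.1 hconj
  have := sameBlock_iff.1 h s
  rwa [centralChar_inflate_relIndex, centralChar_inflate_relIndex, hm1, Nat.cast_one, one_mul,
    one_mul] at this

/-- A member of defect `v(Z)` trivial on the central `p`-subgroup `Z` gives the block defect. -/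
theorem blockDefect_eq_of_trivial_central (hM : IsPModular p M) {H : Type u} [Group H] [Finite H]
    {Z : Subgroup H} [Z.Normal] (hZ : IsPGroup p Z) (hc : Z ≤ Subgroup.center H)
    {B : Set (IrrCharacter H)} (hB : IsPBlock M B) {θ : IrrCharacter H} (hθ : θ ∈ B)
    (htriv : ∀ z ∈ Z, (θ : H → ℂ) z = (θ : H → ℂ) 1)
    (hdeg : (charDegree (θ : H → ℂ)).factorization p + (Nat.card Z).factorization p =
      (Nat.card H).factorization p) :
    blockDefect p B = (Nat.card Z).factorization p := by
  haveI : Fact p.Prime := ⟨hM.1⟩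
  haveI := Fintype.ofFinite (H ⧸ Z)
  obtain ⟨ψ, hψ, he⟩ := Char.exists_irr_deflation θ.2 Z htriv
  have hinf : inflate Z ⟨ψ, hψ⟩ = θ := Subtype.ext (funext he)
  obtain ⟨Bb, hBb, hsub, hdef⟩ := exists_block_image_defect Z hM hZ hB
  obtain ⟨η, hη⟩ := isPBlock_nonempty hBb
  have hmem : (⟨ψ, hψ⟩ : IrrCharacter (H ⧸ Z)) ∈ Bb := (mem_iff_sameBlock hBb hη).2
    (sameBlock_inflate_central hM hZ hc η ⟨ψ, hψ⟩ (sameBlock_of_mem hB (hsub η hη) (hinf ▸ hθ)))
  have hd : charDegree ψ = charDegree (θ : H → ℂ) := by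
    have h1 := char_one_eq_natCast_charDegree (Char.isCharacter_of_isIrr hψ)
    rw [← QuotientGroup.mk_one, he 1, irr_one_eq_natCast] at h1
    exact_mod_cast h1.symm
  have h0 : blockDefect p Bb = 0 := by
    refine blockDefect_eq_zero_of_vanish hM hBb hmem fun q hq =>
      Char.apply_eq_zero_of_defect_zero hψ hM.1 ?_ hq
    rw [hd]
    refine (hM.1.pow_dvd_iff_le_factorization (charDegree_pos θ).ne').2 ?_
    have hH : (Nat.card H).factorization p =
        (Nat.card (H ⧸ Z)).factorization p + (Nat.card Z).factorization p := by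
      rw [Subgroup.card_eq_card_quotient_mul_card_subgroup Z,
        Nat.factorization_mul Nat.card_pos.ne' Nat.card_pos.ne', Finsupp.add_apply]
    omega
  obtain ⟨D, hD⟩ := exists_isDefectGroup hM hB
  have hDb : IsDefectGroup p M Bb (D.map (QuotientGroup.mk' Z)) := (hdef _).2 ⟨D, hD, rfl⟩
  have hc1 := (IsDefectGroup.props hM hBb hDb).2.1
  rw [h0, pow_zero, Subgroup.card_eq_one, Subgroup.map_eq_bot_iff, QuotientGroup.ker_mk'] at hc1
  rw [le_antisymm (le_defect_of_normal hM hB hZ hD) hc1, (IsDefectGroup.props hM hB hD).2.1,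
    hM.1.factorization_pow, Finsupp.single_eq_same]

variable {Q : Subgroup G} {e : CBlock Q}

theorem centre_sub (Q : Subgroup G) :
    Q.subgroupOf (Subgroup.centralizer (Q : Set G)) ≤
      Subgroup.center (Subgroup.centralizer (Q : Set G)) := fun z hz =>
  Subgroup.mem_center_iff.2 fun c => Subtype.ext
    (Subgroup.mem_centralizer_iff.1 c.2 (z : G) hz).symm

theorem card_centre_sub (Q : Subgroup G) :
    Nat.card (Q.subgroupOf (Subgroup.centralizer (Q : Set G))) =
      Nat.card (Q ⊓ Subgroup.centralizer (Q : Set G) : Subgroup G) := by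
  rw [← Subgroup.subgroupOf_map_subtype, Subgroup.card_map_of_injective (Subgroup.subtype_injective _)]

/-- At a maximal pair, the block of the centraliser has the centre as defect group. -/
theorem isDefectGroup_centre_of_maximal (hM : IsPModular p M) {B : Set (IrrCharacter G)}
    (hmax : IsMaximalBrauerPair p M B Q e) :
    IsDefectGroup p M e (Q.subgroupOf (Subgroup.centralizer (Q : Set G))) := by
  obtain ⟨⟨hQ, he⟩, -⟩ := hmax.1
  obtain ⟨D, hD⟩ := exists_isDefectGroup hM he
  obtain ⟨g', hg'⟩ := exists_pair_on_defect hM he hD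
  obtain ⟨g, -, hs⟩ := exists_step_of_centralizer_pair hM hQ he hg'
  have heq := step_group_eq hM hmax hs
  haveI : (Q.subgroupOf (Subgroup.centralizer (Q : Set G))).Normal :=
    Subgroup.normal_subgroupOf_of_le_normalizer (centralizer_le_normalizer_self Q)
  have h1 : D ≤ Q.subgroupOf (Subgroup.centralizer (Q : Set G)) := fun x hx =>
    heq.le (Subgroup.mem_sup_right ⟨x, hx, rfl⟩)
  exact le_antisymm h1 (le_defect_of_normal (Q := Q.subgroupOf (Subgroup.centralizer (Q : Set G)))
    hM he hQ.comap_subtype hD) ▸ hD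

/-- A `p`-element of the stabiliser outside `Q C_G(Q)` contradicts maximality. -/
theorem mem_of_maximal (hM : IsPModular p M) {B : Set (IrrCharacter G)}
    (hmax : IsMaximalBrauerPair p M B Q e) {g : G} (hgN : g ∈ Subgroup.normalizer (Q : Set G))
    (hst : StabilizesBlock (Subgroup.centralizer (Q : Set G)) e g)
    (hgp : ∃ k : ℕ, orderOf g = p ^ k) : g ∈ Q ⊔ Subgroup.centralizer (Q : Set G) := by
  classical
  haveI : Fact p.Prime := ⟨hM.1⟩
  haveI := resField_charP (M := M) hM
  obtain ⟨⟨hQ, he⟩, -⟩ := hmax.1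
  obtain ⟨k, hk⟩ := hgp
  set C := Subgroup.centralizer (Q : Set G) with hCdef
  haveI := Fintype.ofFinite (ConjClasses C)
  set E := pbar M Q e with hE
  set P := Q ⊔ Subgroup.zpowers g with hP
  have hPp : IsPGroup p P := by
    rw [hP, sup_comm]
    exact (IsPGroup.of_card (by rw [Nat.card_zpowers, hk])).to_sup_of_normal_right' hQ
      (Subgroup.zpowers_le.2 hgN)
  have hPN : P ≤ Subgroup.normalizer (Q : Set G) :=
    sup_le Subgroup.le_normalizer (Subgroup.zpowers_le.2 hgN)
  have hPfix : P ≤ fixSub E := sup_le (self_le_fixSub hM hQ he)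
    (Subgroup.zpowers_le.2 ((stabilizesBlock_iff hgN he).1 hst))
  have hPC : P ≤ Subgroup.normalizer (C : Set G) := fun x hx => mem_normalizer_centralizer (hPN hx)
  obtain ⟨θ, hθ⟩ := isPBlock_nonempty he
  letI : MulAction P (ConjClasses C) :=
    { smul := fun x K => K.map (normEquiv (hPC x.2)).toMonoidHom
      one_smul := fun K => by
        induction K using Quotient.inductionOn with
        | h a =>
          show ConjClasses.mk (normEquiv (hPC (1 : P).2) a) = ConjClasses.mk a
          congr 1
          exact Subtype.ext (by simp [coe_normEquiv])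
      mul_smul := fun x y K => by
        induction K using Quotient.inductionOn with
        | h a =>
          show ConjClasses.mk (normEquiv (hPC (x * y).2) a) =
            ConjClasses.mk (normEquiv (hPC x.2) (normEquiv (hPC y.2) a))
          congr 1
          exact Subtype.ext (by simp [coe_normEquiv, mul_assoc]) }
  set f : ConjClasses C → ResField M := fun K =>
    (bar M e).coeff K.out * redC M (centralChar (θ : C → ℂ) K.out) with hf
  have hval : ∀ a : C, f (ConjClasses.mk a) =
      (bar M e).coeff a * redC M (centralChar (θ : C → ℂ) a) := fun a => by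
    have h : IsConj (ConjClasses.mk a).out a :=
      ConjClasses.mk_eq_mk_iff_isConj.1 (Quotient.out_eq (ConjClasses.mk a))
    rw [hf]
    simp only [(isClassCoeff_bar e).conj h, redC_centralChar_of_isConj θ h]
  have hfinv : ∀ (x : P) (K : ConjClasses C), f (x • K) = f K := by
    intro x K
    induction K using Quotient.inductionOn with
    | h a =>
      show f (ConjClasses.mk (normEquiv (hPC x.2) a)) = f (ConjClasses.mk a)
      rw [hval, hval]
      have hstx := (stabilizesBlock_iff (hPN x.2) he).2 (hPfix x.2)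
      obtain ⟨θ', hθ', hc'⟩ := hstx.2 θ hθ
      rw [(isConjCharOf_iff (hPC x.2) θ θ').1 hc'] at hθ'
      congr 1
      · have h := invUnder_iff_cj.2 (hPfix x.2) (a : G)
        rw [hE, pbar, coeff_emb_of_mem C _ a.2,
          coeff_emb_of_mem C _ ((Subgroup.mem_normalizer_iff.1 (hPC x.2) a).1 a.2)] at h
        exact h
      · rw [← sameBlock_iff.1 (sameBlock_of_mem he hθ' hθ) (normEquiv (hPC x.2) a),
          centralChar_mapIrr]
  have h1 : ∑ K, f K = 1 := by
    have h := lam_bar he θ
    rw [if_pos hθ, lam] at h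
    convert h
  rw [sum_eq_sum_fixed (p := p) hPp f hfinv] at h1
  obtain ⟨K, hK, hK0⟩ := Finset.exists_ne_zero_of_sum_ne_zero (h1.trans_ne one_ne_zero)
  have hfix : ∀ x : P, x • K = K := (Finset.mem_filter.1 hK).2
  clear hK h1
  induction K using Quotient.inductionOn with
  | h s =>
    change f (ConjClasses.mk s) ≠ 0 at hK0
    rw [hval] at hK0
    have hcoef : (bar M e).coeff s ≠ 0 := left_ne_zero_of_mul hK0
    set T := (Subgroup.normalizer (Q : Set G) ⊓ fixSub E) with hT
    have hCT : C ≤ T := le_inf (centralizer_le_normalizer_self Q) (centralizer_le_fixSub Q e)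
    have hPT : P ≤ T := le_inf hPN hPfix
    set L := Subgroup.centralizer ({(s : G)} : Set G) ⊓ (P ⊔ C) with hL
    have hQL : Q ≤ L := le_inf (fun q hq => Subgroup.mem_centralizer_singleton_iff.2
      (Subgroup.mem_centralizer_iff.1 s.2 q hq)) (le_sup_left.trans le_sup_left)
    obtain ⟨R₀, hR₀⟩ := (hQ.comap_subtype (K := L)).exists_le_sylow
    set R := (R₀ : Subgroup L).map L.subtype with hR
    have hRp : IsPGroup p R := R₀.2.map _
    have hRL : R ≤ L := Subgroup.map_subtype_le _
    have hQR : Q ≤ R := fun q hq => ⟨⟨q, hQL hq⟩, hR₀ hq, rfl⟩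
    have hRT : R ≤ T := hRL.trans (inf_le_right.trans (sup_le hPT hCT))
    have hne : br R E ≠ 0 := by
      refine br_ne_zero_of_coeff (x := (s : G)) ?_ ?_
      · exact Subgroup.mem_centralizer_iff.2 fun r hr =>
          Subgroup.mem_centralizer_singleton_iff.1 (hRL hr).1
      · rwa [hE, pbar, coeff_emb_of_mem C _ s.2]
    have hRQ : R = Q := by
      by_contra hnQ
      exact hne (br_pbar_eq_zero_of_maximal hM hmax hRp (lt_of_le_of_ne hQR (Ne.symm hnQ))
        (hRT.trans inf_le_left) fun u hu => (hRT hu).2)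
    -- the elements of `L` map onto `P`
    have hsurj : P ≤ L ⊔ C := by
      intro x hx
      obtain ⟨c, hc⟩ := isConj_iff.1 (ConjClasses.mk_eq_mk_iff_isConj.1
        (show ConjClasses.mk (normEquiv (hPC hx) s) = ConjClasses.mk s from hfix ⟨x, hx⟩))
      have hc' : (c : G) * (x * s * x⁻¹) * (c : G)⁻¹ = s := by
        simpa [coe_normEquiv] using congrArg (fun y : C => (y : G)) hc
      have hmem : (c : G) * x ∈ L := by
        refine ⟨Subgroup.mem_centralizer_singleton_iff.2 ?_,
          mul_mem (Subgroup.mem_sup_right c.2) (Subgroup.mem_sup_left hx)⟩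
        conv_rhs => rw [← hc']
        group
      rw [show x = (c : G)⁻¹ * ((c : G) * x) by group]
      exact mul_mem (Subgroup.mem_sup_right (C.inv_mem c.2)) (Subgroup.mem_sup_left hmem)
    haveI : (C.subgroupOf L).Normal := Subgroup.normal_subgroupOf_of_le_normalizer
      (inf_le_right.trans (sup_le hPC Subgroup.le_normalizer))
    have hquot : IsPGroup p (L ⧸ C.subgroupOf L) := by
      intro q
      obtain ⟨l, rfl⟩ := QuotientGroup.mk_surjective q
      have hl : (l : G) ∈ ((P ⊔ C : Subgroup G) : Set G) := l.2.2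
      rw [Subgroup.coe_mul_of_left_le_normalizer_right P C hPC] at hl
      obtain ⟨x, hx, c, hc, hxc⟩ := hl
      obtain ⟨n, hn⟩ := hPp ⟨x, hx⟩
      have hn' : x ^ p ^ n = 1 := congrArg Subtype.val hn
      refine ⟨n, ?_⟩
      rw [← QuotientGroup.mk_pow, QuotientGroup.eq_one_iff, Subgroup.mem_subgroupOf,
        Subgroup.coe_pow, ← hxc]
      have key : ∀ m : ℕ, ∃ c' ∈ C, (x * c) ^ m = x ^ m * c' := by
        intro m
        induction m with
        | zero => exact ⟨1, one_mem _, by simp⟩
        | succ m ih =>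
          obtain ⟨c', hc', hm⟩ := ih
          refine ⟨x⁻¹ * c' * x * c, mul_mem
            ((Subgroup.mem_normalizer_iff''.1 (hPC hx) c').1 hc') hc, ?_⟩
          rw [pow_succ, hm, pow_succ]
          group
      obtain ⟨c', hc', hm⟩ := key (p ^ n)
      rw [show (x * c) ^ p ^ n = c' by rw [hm, hn', one_mul]]
      exact hc'
    have hLtop : (R₀ : Subgroup L) ⊔ C.subgroupOf L = ⊤ := by
      obtain ⟨m, hm⟩ := IsPGroup.iff_card.1 hquot
      rw [← Subgroup.index_eq_one]
      refine Nat.eq_one_of_dvd_coprimes ?_ (Subgroup.index_dvd_of_le le_sup_left)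
        (show ((R₀ : Subgroup L) ⊔ C.subgroupOf L).index ∣ p ^ m by
          rw [← hm, ← Subgroup.index_eq_card]; exact Subgroup.index_dvd_of_le le_sup_right)
      exact ((hM.1.coprime_iff_not_dvd.2 R₀.not_dvd_index).symm).pow_right m
    have hLle : L ≤ Q ⊔ C := by
      intro x hx
      have h := Subgroup.mem_map_of_mem L.subtype (hLtop.ge (Subgroup.mem_top ⟨x, hx⟩))
      rw [Subgroup.map_sup, ← hR, hRQ, Subgroup.subgroupOf_map_subtype] at h
      exact (sup_le_sup_left inf_le_left Q) h
    exact (hsurj.trans (sup_le hLle le_sup_right))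
      (Subgroup.mem_sup_right (Subgroup.mem_zpowers g))

/-- Maximal pairs are detected on the centraliser and the stabiliser. -/
theorem exists_maximal_pair_iff (hM : IsPModular p M) (hQ : IsPGroup p Q) (he : IsPBlock M e) :
    (∃ B : Set (IrrCharacter G), IsMaximalBrauerPair p M B Q e) ↔
      ∃ θ ∈ e, (∀ z : Subgroup.centralizer (Q : Set G), (z : G) ∈ Q →
          (θ : Subgroup.centralizer (Q : Set G) → ℂ) z =
            (θ : Subgroup.centralizer (Q : Set G) → ℂ) 1) ∧
        (charDegree (θ : Subgroup.centralizer (Q : Set G) → ℂ)).factorization p +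
            (Nat.card ↥(Q ⊓ Subgroup.centralizer (Q : Set G))).factorization p =
          (Nat.card (Subgroup.centralizer (Q : Set G))).factorization p ∧
        (∀ g : G, g ∈ Subgroup.normalizer (Q : Set G) →
          StabilizesBlock (Subgroup.centralizer (Q : Set G)) e g → (∃ k : ℕ, orderOf g = p ^ k) →
            g ∈ Q ⊔ Subgroup.centralizer (Q : Set G)) := by
  haveI : Fact p.Prime := ⟨hM.1⟩
  set C := Subgroup.centralizer (Q : Set G) with hC
  haveI : (Q.subgroupOf C).Normal :=
    Subgroup.normal_subgroupOf_of_le_normalizer (centralizer_le_normalizer_self Q)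
  have hZp : IsPGroup p (Q.subgroupOf C) := hQ.comap_subtype
  constructor
  · rintro ⟨B, hmax⟩
    have hD := isDefectGroup_centre_of_maximal hM hmax
    obtain ⟨θ, hθ, htriv⟩ := exists_mem_trivial_on hM hZp he
    refine ⟨θ, hθ, fun z hz => htriv z hz, ?_, fun g hg hs hp => mem_of_maximal hM hmax hg hs hp⟩
    rw [(exists_deflation_defect_zero hM he hD hθ htriv).1, ← card_centre_sub,
      ← Subgroup.index_mul_card (Q.subgroupOf C),
      Nat.factorization_mul Subgroup.index_ne_zero_of_finite Nat.card_pos.ne', Finsupp.add_apply]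
  · rintro ⟨θ, hθ, htriv, hdeg, hstab⟩
    obtain ⟨B, hB⟩ := exists_block_of_pair hM hQ he
    refine ⟨B, isMaximal_of_no_step hM hB fun R g hs => ?_⟩
    obtain ⟨hRp, -, hgb, hQR, hRN, hfix, ho⟩ := hs
    -- `R ≤ Q C`
    have hRQC : R ≤ Q ⊔ C := fun x hx => hstab x (hRN hx)
      ((stabilizesBlock_iff (hRN hx) he).2 (hfix x hx))
      (by obtain ⟨j, hj⟩ := IsPGroup.iff_orderOf.1 hRp ⟨x, hx⟩
          exact ⟨j, by rwa [Subgroup.orderOf_mk] at hj⟩)
    obtain ⟨x, hxC, hx0⟩ := exists_coeff_of_br_ne_zero (ho.br_ne_zero hgb)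
    have hxQ : x ∈ C := by
      by_contra hn
      exact hx0 (coeff_emb_of_not_mem C _ hn)
    rw [pbar, coeff_emb_of_mem C _ hxQ, coeff_bar] at hx0
    obtain ⟨D, hD⟩ := exists_isDefectGroup hM he
    have hcd : blockDefect p e = (Nat.card (Q.subgroupOf C)).factorization p :=
      blockDefect_eq_of_trivial_central hM hZp (centre_sub Q) he hθ (fun z hz => htriv z hz)
        (by rw [card_centre_sub]; exact hdeg)
    have hle : R.subgroupOf C ≤ Q.subgroupOf C := by
      have hconj := conjLE_defect_of_support hM he hD hx0 (P := R.subgroupOf C)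
        hRp.comap_subtype (Subgroup.mem_centralizer_iff.2 fun r hr =>
          Subtype.ext (Subgroup.mem_centralizer_iff.1 hxC (r : G) hr))
      have hcle := hconj.card_le
      rw [(IsDefectGroup.props hM he hD).2.1, hcd] at hcle
      obtain ⟨j, hj⟩ := IsPGroup.iff_card.1 hZp
      rw [hj, hM.1.factorization_pow, Finsupp.single_eq_same, ← hj] at hcle
      exact (Subgroup.eq_of_le_of_card_ge (Subgroup.comap_mono hQR) hcle).ge
    refine le_antisymm (fun r hr => ?_) hQR
    have h := hRQC hr
    rw [← SetLike.mem_coe, sup_comm,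
      Subgroup.coe_mul_of_right_le_normalizer_left C Q
        (fun q hq => mem_normalizer_centralizer (Subgroup.le_normalizer hq))] at h
    obtain ⟨c, hc, q, hq, rfl⟩ := h
    have hcR : c ∈ R := (R.mul_mem_cancel_right (hQR hq)).1 hr
    exact Q.mul_mem (hle (show (⟨c, hc⟩ : C) ∈ R.subgroupOf C from hcR)) hq

end Cfsg.Agent.Lib.Block
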