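import Cfsg.Agent.Lib.Block.Principal
import Cfsg.Agent.Lib.Block.Normal
import Cfsg.Agent.Lib.BrauerPairs.Conj

/-!
# Blocks over the principal block of a subgroup
-/

namespace Cfsg.Agent.Lib.Block

open Cfsg
open scoped ComplexConjugate

set_option linter.unusedSectionVars false
set_option linter.style.haveILetI false

universe u v

variable {p : ℕ} {M : Ideal AlgInt} [M.IsPrime] {G : Type u} [Group G] [Finite G]

lemma pair_regSum [Fintype G] (f : G → ℂ) :
    pair f (regSum p G) = ∑ x : G, if p ∣ orderOf x then 0 else f x := by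
  rw [pair_eq_sum]
  refine Finset.sum_congr rfl fun x _ => ?_
  rw [coeff_regSum]
  split_ifs <;> simp

lemma omega_regSum_mul [Fintype G] (χ : IrrCharacter G) :
    omega (χ : G → ℂ) (regSum p G) * (χ : G → ℂ) 1 =
      ∑ x : G, if p ∣ orderOf x then 0 else (χ : G → ℂ) x := by
  rw [omega, pair_regSum, div_mul_cancel₀ _ (deg_ne_zero χ)]

/-- Constituents of a member of the principal block on a normal subgroup are in the principal
block. -/
theorem constituent_mem_principal {N : Subgroup G} [N.Normal] [Fintype N] {χ : IrrCharacter G}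
    (hχ : χ ∈ principalBlock M G) {θ : IrrCharacter N}
    (hθ : classInner (fun n : N => (χ : G → ℂ) n) (θ : N → ℂ) ≠ 0) :
    θ ∈ principalBlock M N := by
  have h1 : classInner (fun n : N => (oneIrr G : G → ℂ) n) (oneIrr N : N → ℂ) ≠ 0 := by
    rw [show (fun n : N => (oneIrr G : G → ℂ) n) = (oneIrr N : N → ℂ) from rfl,
      Char.classInner_irr_self (oneIrr N).2]
    exact one_ne_zero
  obtain ⟨g, ψ, hψ, he⟩ := mem_gClosure_of_sameBlock N (isPBlock_principalBlock (M := M))
    (show SameBlock M (oneIrr G : G → ℂ) (χ : G → ℂ) from hχ) oneIrr_mem h1 hθ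
  have h2 := sameBlock_conjIrr N g (show SameBlock M (oneIrr N : N → ℂ) (ψ : N → ℂ) from hψ)
  rwa [show conjIrr N g ψ = θ from Subtype.ext he,
    show conjIrr N g (oneIrr N) = oneIrr N from Subtype.ext (funext fun _ => rfl)] at h2

/-- Over a member of the principal block of a normal subgroup, every block contains a character
trivial on that subgroup. -/
theorem exists_sameBlock_trivial_on (hM : IsPModular p M) (N : Subgroup G) [N.Normal] [Fintype N]
    {χ : IrrCharacter G} {θ : IrrCharacter N} (hθ : θ ∈ principalBlock M N)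
    (h : classInner (fun n : N => (χ : G → ℂ) n) (θ : N → ℂ) ≠ 0) :
    ∃ ψ : IrrCharacter G, SameBlock M (χ : G → ℂ) (ψ : G → ℂ) ∧
      ∀ n ∈ N, (ψ : G → ℂ) n = (ψ : G → ℂ) 1 := by
  classical
  haveI := Fintype.ofFinite G
  set a : MonoidAlgebra ℂ G := fromSub N (regSum p N) with ha
  have hac : IsClassCoeff a := isClassCoeff_fromSub N fun g n => by
    simp only [coeff_regSum, ← Subgroup.orderOf_coe, orderOf_conj_eq]
  have hne : ∑ x : G, (if x ∈ N then (if p ∣ orderOf x then 0 else (χ : G → ℂ) x) else 0) ≠ 0 := by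
    have h1 := omega_eq_omega_of_constituent N h hac
      (fun x hx => coeff_fromSub_of_not_mem N _ hx)
    rw [ha, toSub_fromSub] at h1
    have h2 : omega (χ : G → ℂ) (fromSub N (regSum p N)) ≠ 0 := by
      rw [h1]
      intro h0
      exact redC_omega_regSum_of_mem hM hθ (by rw [h0, redC_zero])
    intro h0
    apply h2
    rw [omega_eq_sum, div_eq_zero_iff]
    refine Or.inl (Eq.trans (Finset.sum_congr rfl fun x _ => ?_) h0)
    by_cases hx : x ∈ N
    · rw [coeff_fromSub_of_mem N _ hx, if_pos hx, coeff_regSum, Subgroup.orderOf_mk]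
      split_ifs <;> simp
    · rw [coeff_fromSub_of_not_mem N _ hx, if_neg hx, zero_mul]
  set F : G → ℂ := fun x => if x ∈ N then 1 else 0 with hF
  have hFc : IsClassFunction G F := fun g c => by
    refine if_congr ⟨fun h' => ?_, fun h' => (inferInstance : N.Normal).conj_mem g h' c⟩ rfl rfl
    simpa [mul_assoc] using (inferInstance : N.Normal).conj_mem _ h' c⁻¹
  have hexp := Char.eq_sum_classInner_smul hFc
  obtain ⟨ψ, hψ1, hψ2⟩ : ∃ ψ : IrrCharacter G, classInner F (ψ : G → ℂ) ≠ 0 ∧
      regInner p (χ : G → ℂ) (ψ : G → ℂ) ≠ 0 := by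
    by_contra! hcon
    apply hne
    have h3 : regInner p (χ : G → ℂ) F = 0 := by
      rw [hexp, regInner, Char.classInner_sum_right]
      refine Finset.sum_eq_zero fun ψ _ => ?_
      rw [Char.classInner_smul_right]
      by_cases h4 : classInner F (ψ : G → ℂ) = 0
      · rw [h4, map_zero, zero_mul]
      · exact mul_eq_zero_of_right _ (hcon ψ h4)
    simp only [regInner, classInner, mul_eq_zero] at h3
    refine Eq.trans (Finset.sum_congr rfl fun x _ => ?_)
      (h3.resolve_left (inv_ne_zero (Char.card_ne_zero_complex G)))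
    simp only [hF]
    split_ifs <;> simp
  refine ⟨ψ, ?_, fun n hn => trivial_on_of_constituent_one N ψ ?_ hn⟩
  · by_contra hsb
    exact hψ2 (regInner_eq_zero hM hsb)
  · intro h0
    apply hψ1
    rw [classInner, mul_eq_zero] at h0 ⊢
    right
    have h7 := congrArg conj (h0.resolve_left (inv_ne_zero (Char.card_ne_zero_complex N)))
    rw [map_zero, map_sum] at h7
    rw [← h7]
    simp only [hF, ite_mul, one_mul, zero_mul, map_mul, map_one, mul_one]
    rw [← Finset.sum_filter]
    exact Finset.sum_subtype _ (fun x => by simp) _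

/-- Principal blocks correspond under isomorphisms. -/
theorem mapBlock_principal {H : Type u} [Group H] [Finite H] {K : Type v} [Group K] [Finite K]
    (e : H ≃* K) :
    BrauerPairs.mapBlock e (principalBlock M H) = principalBlock M K := by
  rw [principalBlock_eq, BrauerPairs.mapBlock_blockOf]
  rfl

theorem mapIrr_mem_principal_iff {H : Type u} [Group H] [Finite H] {K : Type v} [Group K]
    [Finite K] (e : H ≃* K) {θ : IrrCharacter H} :
    BrauerPairs.mapIrr e θ ∈ principalBlock M K ↔ θ ∈ principalBlock M H := by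
  rw [← mapBlock_principal e]
  exact (BrauerPairs.mapIrr_injective e).mem_set_image

/-- Some member of `p'`-degree of the principal block lies over a member of `p'`-degree of the
principal block of a subgroup of index prime to `p`. -/
theorem exists_principal_over (hM : IsPModular p M) (H : Subgroup G) [Fintype H]
    (hidx : ¬ p ∣ H.index) {η : IrrCharacter H} (hη : η ∈ principalBlock M H)
    (hdeg : ¬ p ∣ charDegree (η : H → ℂ)) :
    ∃ χ : IrrCharacter G, χ ∈ principalBlock M G ∧ ¬ p ∣ charDegree (χ : G → ℂ) ∧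
      classInner (fun h : H => (χ : G → ℂ) h) (η : H → ℂ) ≠ 0 := by
  classical
  haveI := Fintype.ofFinite G
  haveI := resField_charP (M := M) hM
  set F : G → ℂ := fun x => if p ∣ orderOf x then 0 else 1 with hF
  have hFc : IsClassFunction G F := fun g c => by
    simp only [hF, orderOf_conj_eq]
  set T : ℂ := ∑ h : H, if p ∣ orderOf h then 0 else (η : H → ℂ) h with hT
  have hTω : T = omega (η : H → ℂ) (regSum p H) * (η : H → ℂ) 1 := (omega_regSum_mul η).symm
  obtain ⟨j, hj⟩ : ∃ j : ℕ, j = H.index := ⟨_, rfl⟩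
  -- the sum over the regular elements of the induced character
  have hind : classInner (indFun H (η : H → ℂ)) F = (Nat.card H : ℂ)⁻¹ * T := by
    rw [Char.classInner_indFun H _ hFc]
    unfold classInner
    congr 1
    refine Finset.sum_congr rfl fun h _ => ?_
    simp only [hF, Subgroup.orderOf_coe]
    split_ifs <;> simp
  have hexp := Char.eq_sum_classInner_smul
    (Char.isClassFunction_indFun H (η : H → ℂ))
  choose m hm using fun χ : IrrCharacter G => Char.classInner_natCast
    (Char.isCharacter_indFun H (Char.isCharacter_of_isIrr η.2)) (Char.isCharacter_of_isIrr χ.2)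
  have hsum : (∑ χ : IrrCharacter G, (m χ : ℂ) *
      (omega (χ : G → ℂ) (regSum p G) * (χ : G → ℂ) 1)) = (H.index : ℂ) * T := by
    have h1 : classInner (indFun H (η : H → ℂ)) F = (Nat.card G : ℂ)⁻¹ *
        ∑ χ : IrrCharacter G, (m χ : ℂ) * (omega (χ : G → ℂ) (regSum p G) * (χ : G → ℂ) 1) := by
      conv_lhs => rw [hexp]
      rw [Char.classInner_sum_left, Finset.mul_sum]
      refine Finset.sum_congr rfl fun χ _ => ?_
      rw [Char.classInner_smul_left, hm χ, omega_regSum_mul, classInner, mul_left_comm]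
      congr 2
      refine Finset.sum_congr rfl fun x _ => ?_
      simp only [hF]
      split_ifs <;> simp
    rw [hind] at h1
    have hG := Char.card_ne_zero_complex G
    have hH := Char.card_ne_zero_complex H
    have hc : (Nat.card H : ℂ) * (H.index : ℂ) = (Nat.card G : ℂ) := by
      exact_mod_cast H.card_mul_index
    calc _ = (Nat.card G : ℂ) * ((Nat.card H : ℂ)⁻¹ * T) := by
            rw [h1, ← mul_assoc, mul_inv_cancel₀ hG, one_mul]
      _ = (H.index : ℂ) * T := by
            rw [← hc]
            field_simp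
  have hl : ∀ χ : IrrCharacter G, omega (χ : G → ℂ) (regSum p G) ∈ locRing M := fun χ =>
    omega_mem_locRing χ isClassCoeff_regSum intR_regSum
  have hr := congrArg (redC M) hsum
  rw [redC_sum _ (fun χ _ => mul_mem (nat_mem _) (mul_mem (hl χ) (irr_mem_locRing χ 1))),
    hTω, redC_mul (nat_mem _) (mul_mem (omega_mem_locRing η isClassCoeff_regSum intR_regSum)
      (irr_mem_locRing η 1)),
    redC_mul (omega_mem_locRing η isClassCoeff_regSum intR_regSum) (irr_mem_locRing η 1)] at hr
  have hne : redC M (H.index : ℂ) * (redC M (omega (η : H → ℂ) (regSum p H)) *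
      redC M ((η : H → ℂ) 1)) ≠ 0 := by
    refine mul_ne_zero (fun h => hidx ((redC_natCast_eq_zero_iff hM).1 h))
      (mul_ne_zero (redC_omega_regSum_of_mem hM hη) fun h => hdeg ?_)
    rw [irr_one_eq_natCast] at h
    exact (redC_natCast_eq_zero_iff hM).1 h
  rw [← hr] at hne
  obtain ⟨χ, -, hχ⟩ := Finset.exists_ne_zero_of_sum_ne_zero hne
  rw [redC_mul (nat_mem _) (mul_mem (hl χ) (irr_mem_locRing χ 1)),
    redC_mul (hl χ) (irr_mem_locRing χ 1)] at hχ
  refine ⟨χ, ?_, fun h => ?_, fun h => ?_⟩
  · exact (mem_principalBlock_iff hM).2 (left_ne_zero_of_mul (right_ne_zero_of_mul hχ))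
  · refine right_ne_zero_of_mul (right_ne_zero_of_mul hχ) ?_
    rw [irr_one_eq_natCast]
    exact (redC_natCast_eq_zero_iff hM).2 h
  · refine left_ne_zero_of_mul hχ ?_
    have h1 := hm χ
    rw [Char.classInner_indFun H _ (Char.isClassFunction_of_isIrr χ.2),
      Char.classInner_conj_symm, h, map_zero] at h1
    rw [← h1, redC_zero]

end Cfsg.Agent.Lib.Block

namespace Cfsg.Agent.Lib.Block

open Cfsg
open scoped ComplexConjugate

/-- A constituent with irreducible pullback contributes to the pullback. -/
theorem classInner_restrict_ne_zero {H N : Type*} [Group H] [Fintype H] [Group N] [Fintype N]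
    (f : N →* H) {φ : H → ℂ} (hφ : IsCharacter H φ) (η : IrrCharacter H) {θ : N → ℂ}
    (hθ : IsIrrCharacter N θ) (hres : ∀ n, (η : H → ℂ) (f n) = θ n)
    (h : classInner φ (η : H → ℂ) ≠ 0) : classInner (fun n => φ (f n)) θ ≠ 0 := by
  classical
  choose m hm using fun ψ : IrrCharacter H =>
    Char.classInner_natCast hφ (Char.isCharacter_of_isIrr ψ.2)
  choose k hk using fun ψ : IrrCharacter H => Char.classInner_natCast (G := N)
    (Char.isCharacter_comp (Char.isCharacter_of_isIrr ψ.2) f) (Char.isCharacter_of_isIrr hθ)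
  have hexp := Char.eq_sum_classInner_smul (Char.isClassFunction_of_isCharacter hφ)
  have key : classInner (fun n => φ (f n)) θ = ((∑ ψ : IrrCharacter H, m ψ * k ψ : ℕ) : ℂ) := by
    rw [show (fun n => φ (f n)) =
      ∑ ψ : IrrCharacter H, (m ψ : ℂ) • ((ψ : H → ℂ) ∘ f) by
        funext n
        conv_lhs => rw [hexp]
        simp only [Finset.sum_apply, Pi.smul_apply, Function.comp, hm],
      Char.classInner_sum_left, Nat.cast_sum]
    refine Finset.sum_congr rfl fun ψ _ => ?_
    rw [Char.classInner_smul_left, hk, Nat.cast_mul]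
  rw [key, Nat.cast_ne_zero, ← Nat.pos_iff_ne_zero]
  refine lt_of_lt_of_le ?_ (Finset.single_le_sum (fun ψ _ => Nat.zero_le (m ψ * k ψ))
    (Finset.mem_univ η))
  refine Nat.mul_pos (Nat.pos_of_ne_zero fun h0 => h (by rw [hm, h0, Nat.cast_zero]))
    (Nat.pos_of_ne_zero fun h0 => ?_)
  have h1 := hk η
  rw [show ((η : H → ℂ) ∘ f) = θ from funext hres, Char.classInner_irr_self hθ, h0,
    Nat.cast_zero] at h1
  exact one_ne_zero h1

end Cfsg.Agent.Lib.Block
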