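import Cfsg.Agent.Lib.Block.PrincipalCover
import Cfsg.Agent.Lib.Block.PParts
import Cfsg.Agent.Lib.Char.BrauerInduction
import Cfsg.Agent.Lib.Char.Linear
import Cfsg.Agent.Lib.CharClifford.Gallagher
import Cfsg.Agent.Lib.CharClifford.Extend
import Cfsg.Agent.Lib.CharClifford.NormOne
import Cfsg.Agent.Lib.Ito
import Mathlib.GroupTheory.Sylow
import Mathlib.GroupTheory.SpecificGroups.Cyclic

/-!
# Restriction of the principal block to a normal subgroup covered by `C(P)`
-/

namespace Cfsg.Agent.Lib.Block.PrincipalRestrict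

open Cfsg Cfsg.Agent.Lib
open scoped ComplexConjugate

set_option linter.unusedSectionVars false
set_option linter.style.haveILetI false

universe u

variable {p : ℕ} {M : Ideal AlgInt} [M.IsPrime] {G : Type u} [Group G] [Finite G]

/-- Normalised values one modulo `M` at the regular elements centralising `P`. -/
def KC (M : Ideal AlgInt) [M.IsPrime] (p : ℕ) (P : Subgroup G) (χ : G → ℂ) : Prop :=
  ∀ k ∈ Subgroup.centralizer (P : Set G), ¬ p ∣ orderOf k →
    χ k / χ 1 ∈ locRing M ∧ redC M (χ k / χ 1) = 1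

/-- The standing hypothesis. -/
structure Hyp (p : ℕ) (R P : Subgroup G) : Prop where
  normal : R.Normal
  pgroup : IsPGroup p P
  le : P ≤ R
  sylow : ¬ p ∣ P.index
  sup : R ⊔ Subgroup.centralizer (P : Set G) = ⊤

lemma Hyp.not_dvd_index {R P : Subgroup G} (h : Hyp p R P) : ¬ p ∣ R.index :=
  fun hd => h.sylow (hd.trans (Subgroup.index_dvd_of_le h.le))

lemma not_dvd_index_centralizer {P : Subgroup G} (hs : ¬ p ∣ P.index) {k : G}
    (hk : k ∈ Subgroup.centralizer (P : Set G)) :
    ¬ p ∣ (Subgroup.centralizer ({k} : Set G)).index :=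
  fun hd => hs (hd.trans (Subgroup.index_dvd_of_le (le_centralizer_singleton_iff.2 hk)))

/-- A central character congruent to the trivial one gives `KC`. -/
lemma kc_of_redC (hM : IsPModular p M) {P : Subgroup G} (hs : ¬ p ∣ P.index) (χ : IrrCharacter G)
    (h : ∀ k ∈ Subgroup.centralizer (P : Set G), ¬ p ∣ orderOf k →
      redC M (centralChar (χ : G → ℂ) k) =
        redC M ((Subgroup.centralizer ({k} : Set G)).index : ℂ)) :
    KC M p P (χ : G → ℂ) := by
  intro k hk hreg
  haveI := resField_charP (M := M) hM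
  have hidx := not_dvd_index_centralizer hs hk
  set n := (Subgroup.centralizer ({k} : Set G)).index with hn
  have hn0 : (n : ℂ) ≠ 0 := Nat.cast_ne_zero.2 fun h0 => hidx (h0 ▸ dvd_zero p)
  have hinv : (n : ℂ)⁻¹ ∈ locRing M := inv_natCast_mem_locRing hM hidx
  have he : (χ : G → ℂ) k / (χ : G → ℂ) 1 = (n : ℂ)⁻¹ * centralChar (χ : G → ℂ) k := by
    rw [centralChar, ← hn, mul_div_assoc, ← mul_assoc, inv_mul_cancel₀ hn0, one_mul]
  refine ⟨he ▸ mul_mem hinv (centralChar_mem_locRing χ k), ?_⟩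
  rw [he, redC_mul hinv (centralChar_mem_locRing χ k), h k hk hreg, ← redC_mul hinv (nat_mem _),
    inv_mul_cancel₀ hn0, redC_one]

lemma kc_of_mem (hM : IsPModular p M) {P : Subgroup G} (hs : ¬ p ∣ P.index) {χ : IrrCharacter G}
    (hχ : χ ∈ principalBlock M G) : KC M p P (χ : G → ℂ) := by
  refine kc_of_redC hM hs χ fun k _ _ => ?_
  rw [← sameBlock_iff.1 (show SameBlock M (oneIrr G : G → ℂ) (χ : G → ℂ) from hχ) k]
  simp [centralChar, oneIrr_apply]

lemma redC_centralChar_of_kc {P : Subgroup G} {χ : IrrCharacter G}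
    (h : KC M p P (χ : G → ℂ)) {k : G} (hk : k ∈ Subgroup.centralizer (P : Set G))
    (hreg : ¬ p ∣ orderOf k) :
    redC M (centralChar (χ : G → ℂ) k) =
      redC M ((Subgroup.centralizer ({k} : Set G)).index : ℂ) := by
  obtain ⟨h1, h2⟩ := h k hk hreg
  rw [centralChar, mul_div_assoc, redC_mul (nat_mem _) h1, h2, mul_one]

/-- Every coset of `R` has a regular representative centralising `P`. -/
lemma Hyp.exists_rep {R P : Subgroup G} (h : Hyp p R P) [hp : Fact p.Prime] (g : G) :
    ∃ k ∈ Subgroup.centralizer (P : Set G), ¬ p ∣ orderOf k ∧ g⁻¹ * k ∈ R := by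
  haveI := h.normal
  obtain ⟨r, hr, c, hc, rfl⟩ := Subgroup.mem_sup_of_normal_left.1 (h.sup.ge (Subgroup.mem_top g))
  obtain ⟨z, hz⟩ := exists_isPPart (p := p) c
  have hzC : z ∈ Subgroup.centralizer (P : Set G) :=
    (Subgroup.zpowers_le.2 hc) (IsPPart.mem_zpowers hz)
  obtain ⟨s, hs1, -, ⟨j, hj⟩, hs4⟩ := hz
  refine ⟨s, ?_, hs4, ?_⟩
  · rw [show s = z⁻¹ * c by rw [← hs1, inv_mul_cancel_left]]
    exact mul_mem (inv_mem hzC) hc
  · have hzR : z ∈ R := by
      rw [← QuotientGroup.eq_one_iff (N := R), ← orderOf_eq_one_iff]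
      refine Nat.eq_one_of_dvd_coprimes (Nat.Coprime.pow_left j
        (hp.out.coprime_iff_not_dvd.2 h.not_dvd_index)) (hj ▸ orderOf_map_dvd (QuotientGroup.mk' R) z) ?_
      rw [Subgroup.index_eq_card]
      exact orderOf_dvd_natCard _
    rw [← hs1, show (r * (z * s))⁻¹ * s = s⁻¹ * (z⁻¹ * r⁻¹) * s⁻¹⁻¹ by group]
    exact h.normal.conj_mem _ (mul_mem (inv_mem hzR) (inv_mem hr)) s⁻¹

lemma not_dvd_degree_of_trivial {R P : Subgroup G} (h : Hyp p R P) (β : IrrCharacter G)
    (hβ : ∀ n ∈ R, (β : G → ℂ) n = (β : G → ℂ) 1) : ¬ p ∣ charDegree (β : G → ℂ) := by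
  haveI := h.normal
  haveI := Fintype.ofFinite (G ⧸ R)
  obtain ⟨ψ, hψ, he⟩ := Char.exists_irr_deflation β.2 R hβ
  intro hd
  have h1 : ψ 1 = (charDegree (β : G → ℂ) : ℂ) := by
    rw [← QuotientGroup.mk_one, he 1]
    exact irr_one_eq_natCast β
  have h2 := Char.irr_degree_dvd_card hψ h1
  rw [← Subgroup.index_eq_card] at h2
  exact h.not_dvd_index (hd.trans h2)

/-- A character trivial on `R` with `KC` is trivial. -/
theorem eq_one_of_kc (hM : IsPModular p M) {R P : Subgroup G} (h : Hyp p R P)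
    (β : IrrCharacter G) (hβ : ∀ n ∈ R, (β : G → ℂ) n = (β : G → ℂ) 1)
    (hk : KC M p P (β : G → ℂ)) : β = oneIrr G := by
  classical
  haveI : Fact p.Prime := ⟨hM.1⟩
  haveI := h.normal
  haveI := resField_charP (M := M) hM
  haveI := Fintype.ofFinite G
  haveI := Fintype.ofFinite (G ⧸ R)
  obtain ⟨ψ, hψ, he⟩ := Char.exists_irr_deflation β.2 R hβ
  have hval : ∀ q : G ⧸ R, ψ q / ψ 1 ∈ locRing M ∧ redC M (ψ q / ψ 1) = 1 := by
    intro q
    obtain ⟨g, rfl⟩ := QuotientGroup.mk_surjective q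
    obtain ⟨k, hkC, hreg, hgk⟩ := h.exists_rep g
    rw [QuotientGroup.eq.2 hgk, he, ← QuotientGroup.mk_one, he]
    exact hk k hkC hreg
  by_contra hne
  have hψ1 : ψ ≠ fun _ => 1 := fun h1 =>
    hne (Subtype.ext (funext fun g => by rw [← he g, h1]; rfl))
  have horth := Char.classInner_irr_ne hψ Char.isIrrCharacter_one hψ1
  rw [classInner, mul_eq_zero] at horth
  have hsum := horth.resolve_left (inv_ne_zero (Char.card_ne_zero_complex _))
  simp only [map_one, mul_one] at hsum
  have h0 : ∑ q : G ⧸ R, ψ q / ψ 1 = 0 := by rw [← Finset.sum_div, hsum, zero_div]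
  have h1 := congrArg (redC M) h0
  rw [redC_sum _ (fun q _ => (hval q).1), redC_zero,
    Finset.sum_congr rfl fun q _ => (hval q).2, Finset.sum_const, nsmul_one, Finset.card_univ,
    ← Nat.card_eq_fintype_card, ← Subgroup.index_eq_card] at h1
  exact h.not_dvd_index ((CharP.cast_eq_zero_iff (ResField M) p _).1 h1)

/-- `KC` passes to a quotient of characters. -/
lemma kc_div (hM : IsPModular p M) {P : Subgroup G} {χ η : G → ℂ} (β : IrrCharacter G)
    (hd : ¬ p ∣ charDegree (β : G → ℂ)) (he : χ = (β : G → ℂ) * η) (hχ : KC M p P χ)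
    (hη : KC M p P η) : KC M p P (β : G → ℂ) := by
  intro k hk hreg
  have hmem : (β : G → ℂ) k / (β : G → ℂ) 1 ∈ locRing M := by
    rw [div_eq_mul_inv, irr_one_eq_natCast]
    exact mul_mem (irr_mem_locRing β k) (inv_natCast_mem_locRing hM hd)
  refine ⟨hmem, ?_⟩
  obtain ⟨h1, h2⟩ := hχ k hk hreg
  obtain ⟨h3, h4⟩ := hη k hk hreg
  have hsplit : χ k / χ 1 = (β : G → ℂ) k / (β : G → ℂ) 1 * (η k / η 1) := by
    rw [he]
    simp only [Pi.mul_apply]
    rw [mul_div_mul_comm]
  rwa [hsplit, redC_mul hmem h3, h4, mul_one] at h2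

/-- Extensions with `KC` are unique. -/
theorem ext_unique (hM : IsPModular p M) {R P : Subgroup G} (h : Hyp p R P) [Fintype R]
    {θ : R → ℂ} (hθ : IsIrrCharacter R θ) {χ η : G → ℂ} (hχ : IsIrrCharacter G χ)
    (hη : IsIrrCharacter G η) (hχr : ∀ n : R, χ n = θ n) (hηr : ∀ n : R, η n = θ n)
    (kχ : KC M p P χ) (kη : KC M p P η) : χ = η := by
  haveI := Fintype.ofFinite G
  haveI := h.normal
  obtain ⟨l, hl, he⟩ := CharClifford.extension_unique_mul_linear R hθ hη hηr hχ hχr
  let β : IrrCharacter G := ⟨_, Char.isIrrCharacter_linear l⟩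
  have hb : ∀ n ∈ R, (β : G → ℂ) n = (β : G → ℂ) 1 := fun n hn => by
    show (l n : ℂ) = (l 1 : ℂ)
    rw [hl ⟨n, hn⟩, map_one]
  have h1 := eq_one_of_kc hM h β hb
    (kc_div hM β (not_dvd_degree_of_trivial h β hb) he kχ kη)
  rw [he]
  funext g
  rw [show (l g : ℂ) = (β : G → ℂ) g from rfl, h1, oneIrr_apply, one_mul]

/-- An extension with `KC` is in the principal block. -/
theorem mem_of_kc (hM : IsPModular p M) {R P : Subgroup G} (h : Hyp p R P) [Fintype R]
    {θ : IrrCharacter R} (hθ : θ ∈ principalBlock M R) {η : IrrCharacter G}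
    (hr : ∀ n : R, (η : G → ℂ) n = (θ : R → ℂ) n) (hk : KC M p P (η : G → ℂ)) :
    η ∈ principalBlock M G := by
  haveI := h.normal
  obtain ⟨ψ, hsb, hψ⟩ := exists_sameBlock_trivial_on hM R (χ := η) hθ (by
    rw [show (fun n : R => (η : G → ℂ) n) = (θ : R → ℂ) from funext hr,
      Char.classInner_irr_self θ.2]
    exact one_ne_zero)
  have hψk : KC M p P (ψ : G → ℂ) := kc_of_redC hM h.sylow ψ fun k hk' hreg => by
    rw [← sameBlock_iff.1 hsb k]
    exact redC_centralChar_of_kc hk hk' hreg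
  have h1 := eq_one_of_kc hM h ψ hψ hψk
  rw [h1] at hsb
  exact sameBlock_symm hsb

/-- A character whose pullback is irreducible is irreducible. -/
theorem isIrr_of_pullback {H N : Type*} [Group H] [Finite H] [Group N] [Finite N]
    (f : N →* H) {φ : H → ℂ} (hφ : IsCharacter H φ) (h : IsIrrCharacter N (fun n => φ (f n))) :
    IsIrrCharacter H φ := by
  classical
  haveI := Fintype.ofFinite H
  haveI := Fintype.ofFinite N
  choose m hm using fun ψ : IrrCharacter H =>
    Char.classInner_natCast hφ (Char.isCharacter_of_isIrr ψ.2)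
  choose k hk using fun (ψ : IrrCharacter H) (η : IrrCharacter N) =>
    Char.classInner_natCast (G := N)
      (Char.isCharacter_comp (Char.isCharacter_of_isIrr ψ.2) f) (Char.isCharacter_of_isIrr η.2)
  have hexp := Char.eq_sum_classInner_smul (Char.isClassFunction_of_isCharacter hφ)
  simp only [hm] at hexp
  let θ : IrrCharacter N := ⟨_, h⟩
  have key : ∀ η : IrrCharacter N, (∑ ψ : IrrCharacter H, m ψ * k ψ η) = if θ = η then 1 else 0 := by
    intro η
    have h1 : classInner (fun n => φ (f n)) (η : N → ℂ) =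
        ((∑ ψ : IrrCharacter H, m ψ * k ψ η : ℕ) : ℂ) := by
      rw [show (fun n => φ (f n)) = ∑ ψ : IrrCharacter H, (m ψ : ℂ) • ((ψ : H → ℂ) ∘ f) by
          funext n
          conv_lhs => rw [hexp]
          simp only [Finset.sum_apply, Pi.smul_apply, Function.comp],
        Char.classInner_sum_left, Nat.cast_sum]
      refine Finset.sum_congr rfl fun ψ _ => ?_
      rw [Char.classInner_smul_left, hk, Nat.cast_mul]
    rw [Char.classInner_irr h η.2] at h1
    have h2 : ((fun n => φ (f n)) = (η : N → ℂ)) ↔ θ = η := ⟨fun e => Subtype.ext e, fun e => e ▸ rfl⟩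
    rw [if_congr h2 rfl rfl] at h1
    split_ifs with he <;> simp only [he, if_true, if_false] at h1 <;> exact_mod_cast h1.symm
  have hpos : ∀ ψ : IrrCharacter H, m ψ ≠ 0 → k ψ θ ≠ 0 := by
    intro ψ hmψ hk0
    obtain ⟨η, hη⟩ := Char.exists_constituent (φ := ((ψ : H → ℂ) ∘ f))
      (Char.isCharacter_comp (Char.isCharacter_of_isIrr ψ.2) f) (fun h0 => deg_ne_zero ψ (by
        have := congrFun h0 1
        rwa [Function.comp, map_one] at this))
    rw [hk ψ η, Nat.cast_ne_zero] at hη
    by_cases he : θ = η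
    · exact hη (he ▸ hk0)
    · have h1 := key η
      rw [if_neg he, Finset.sum_eq_zero_iff] at h1
      exact Nat.mul_ne_zero hmψ hη (h1 ψ (Finset.mem_univ ψ))
  have hθ1 := key θ
  rw [if_pos rfl] at hθ1
  obtain ⟨ψ₀, -, hψ₀⟩ := Finset.exists_ne_zero_of_sum_ne_zero (by rw [hθ1]; exact one_ne_zero)
  have hsplit := Finset.add_sum_erase Finset.univ (fun ψ => m ψ * k ψ θ) (Finset.mem_univ ψ₀)
  rw [hθ1] at hsplit
  have h1 : 0 < m ψ₀ * k ψ₀ θ := Nat.pos_of_ne_zero hψ₀
  have hm1 : m ψ₀ = 1 := by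
    have : m ψ₀ * k ψ₀ θ = 1 := by omega
    exact (mul_eq_one.1 this).1
  have hrest : ∀ ψ, ψ ≠ ψ₀ → m ψ = 0 := by
    intro ψ hne
    by_contra hm0
    have h2 := Finset.single_le_sum (f := fun ψ => m ψ * k ψ θ) (fun _ _ => Nat.zero_le _)
      (Finset.mem_erase.2 ⟨hne, Finset.mem_univ ψ⟩)
    have h3 : 0 < m ψ * k ψ θ := Nat.pos_of_ne_zero (Nat.mul_ne_zero hm0 (hpos ψ hm0))
    omega
  rw [hexp, Finset.sum_eq_single ψ₀ (fun ψ _ hne => by rw [hrest ψ hne, Nat.cast_zero, zero_smul])
    (fun hn => absurd (Finset.mem_univ ψ₀) hn), hm1, Nat.cast_one, one_smul]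
  exact ψ₀.2

/-- The hypothesis passes to subgroups containing `R`. -/
lemma Hyp.subgroup {R P : Subgroup G} (h : Hyp p R P) {H : Subgroup G} (hRH : R ≤ H) :
    Hyp p (R.subgroupOf H) (P.subgroupOf H) := by
  haveI := h.normal
  refine ⟨inferInstance, h.pgroup.comap_of_injective _ (Subgroup.subtype_injective _),
    Subgroup.comap_mono h.le, fun hd => h.sylow (hd.trans ?_), eq_top_iff.2 fun x _ => ?_⟩
  · exact Subgroup.relIndex_mul_index (h.le.trans hRH) ▸ dvd_mul_right _ _
  · obtain ⟨r, hr, c, hc, hrc⟩ := Subgroup.mem_sup_of_normal_left.1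
      (h.sup.ge (Subgroup.mem_top (x : G)))
    have hcH : c ∈ H := by
      rw [show c = r⁻¹ * x by rw [← hrc, inv_mul_cancel_left]]
      exact mul_mem (inv_mem (hRH hr)) x.2
    rw [show x = (⟨r, hRH hr⟩ : H) * ⟨c, hcH⟩ from Subtype.ext hrc.symm]
    refine Subgroup.mul_mem_sup (Subgroup.mem_subgroupOf.2 hr) (Subgroup.mem_centralizer_iff.2 ?_)
    intro y hy
    exact Subtype.ext (Subgroup.mem_centralizer_iff.1 hc y (Subgroup.mem_subgroupOf.1 hy))

/-- Inside a group with simple noncyclic quotient no elementary subgroup covers the quotient. -/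
theorem sup_elementary_ne_top {R : Subgroup G} [R.Normal] [IsSimpleGroup (G ⧸ R)]
    (hnc : ¬ IsCyclic (G ⧸ R)) {E : Subgroup G} {q : ℕ} (hq : q.Prime) (hE : IsElementary q E) :
    R ⊔ E ≠ ⊤ := by
  intro htop
  haveI := Fact.mk hq
  obtain ⟨x, hx, -, j, hj⟩ := hE
  set π : E →* G ⧸ R := (QuotientGroup.mk' R).comp E.subtype with hπ
  have hsurj : Function.Surjective π := by
    intro y
    obtain ⟨g, rfl⟩ := QuotientGroup.mk'_surjective R y
    obtain ⟨r, hr, e, he, rfl⟩ := Subgroup.mem_sup_of_normal_left.1 (htop.ge (Subgroup.mem_top g))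
    refine ⟨⟨e, he⟩, ?_⟩
    rw [map_mul, show QuotientGroup.mk' R r = 1 from (QuotientGroup.eq_one_iff r).2 hr, one_mul]
    rfl
  have hz : Subgroup.center (G ⧸ R) = ⊥ := by
    rcases IsSimpleGroup.eq_bot_or_eq_top_of_normal (Subgroup.center (G ⧸ R)) inferInstance with h | h
    · exact h
    · exfalso
      apply hnc
      letI : CommGroup (G ⧸ R) := Group.commGroupOfCenterEqTop h
      infer_instance
  have hx1 : π x = 1 := by
    rw [← Subgroup.mem_bot, ← hz, Subgroup.mem_center_iff]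
    intro y
    obtain ⟨e, rfl⟩ := hsurj y
    rw [← map_mul, ← map_mul, Subgroup.mem_center_iff.1 hx e]
  have hpg : IsPGroup q (G ⧸ R) := by
    have hker : Subgroup.zpowers x ≤ π.ker := Subgroup.zpowers_le.2 hx1
    have h1 : Nat.card (G ⧸ R) ∣ q ^ j := by
      rw [← Nat.card_congr (QuotientGroup.quotientKerEquivOfSurjective π hsurj).toEquiv,
        ← Subgroup.index_eq_card, ← hj]
      exact Subgroup.index_dvd_of_le hker
    obtain ⟨i, -, hi⟩ := (Nat.dvd_prime_pow hq).1 h1
    exact IsPGroup.of_card hi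
  have := hpg.center_nontrivial
  rw [Subgroup.nontrivial_iff_ne_bot] at this
  exact this hz

/-- Existence of the extension, by induction on the index. -/
theorem exists_ext_aux (hM : IsPModular p M) : ∀ (m : ℕ) {G : Type u} [Group G] [Finite G]
    {R P : Subgroup G} [Fintype R], R.index ≤ m → Hyp p R P → ∀ θ : IrrCharacter R,
      θ ∈ principalBlock M R → ∃ η : IrrCharacter G,
        (∀ n : R, (η : G → ℂ) n = (θ : R → ℂ) n) ∧ KC M p P (η : G → ℂ) := by
  intro m
  induction m using Nat.strong_induction_on with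
  | _ m IH =>
  intro G _ _ R P _ hm h θ hθ
  classical
  haveI : Fact p.Prime := ⟨hM.1⟩
  haveI := h.normal
  haveI := Fintype.ofFinite G
  haveI := Fintype.ofFinite (G ⧸ R)
  -- extensions to proper subgroups above R
  have hsub : ∀ H : Subgroup G, R ≤ H → H ≠ ⊤ → ∃ η : IrrCharacter H,
      (∀ (n : G) (hn : n ∈ R) (hn' : n ∈ H), (η : H → ℂ) ⟨n, hn'⟩ = (θ : R → ℂ) ⟨n, hn⟩) ∧
        KC M p (P.subgroupOf H) (η : H → ℂ) := by
    intro H hRH hne
    haveI := Fintype.ofFinite (R.subgroupOf H)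
    have hlt : (R.subgroupOf H).index < R.index := by
      have h1 := Subgroup.relIndex_mul_index hRH
      have h2 : 1 < H.index := Nat.one_lt_iff_ne_zero_and_ne_one.2
        ⟨Subgroup.index_ne_zero_of_finite, fun e => hne (Subgroup.index_eq_one.1 e)⟩
      have h3 : 0 < R.relIndex H := Nat.pos_of_ne_zero fun e => by
        rw [e, zero_mul] at h1
        exact Subgroup.index_ne_zero_of_finite h1.symm
      rw [show (R.subgroupOf H).index = R.relIndex H from rfl, ← h1]
      exact lt_mul_of_one_lt_right h3 h2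
    set e := Subgroup.subgroupOfEquivOfLe hRH with he
    obtain ⟨η, hη1, hη2⟩ := IH (R.subgroupOf H).index (hlt.trans_le hm) le_rfl (h.subgroup hRH)
      (BrauerPairs.mapIrr e.symm θ) ((mapIrr_mem_principal_iff e.symm).2 hθ)
    refine ⟨η, fun n hn hn' => ?_, hη2⟩
    have h4 := hη1 (e.symm ⟨n, hn⟩)
    rw [BrauerPairs.mapIrr_apply] at h4
    exact h4
  by_cases hint : ∃ Mx : Subgroup G, Mx.Normal ∧ R ≤ Mx ∧ R ≠ Mx ∧ Mx ≠ ⊤
  · -- composition through an intermediate normal subgroup
    obtain ⟨Mx, hMn, hRM, hne1, hne2⟩ := hint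
    haveI := Fintype.ofFinite Mx
    obtain ⟨ζ, hζ1, hζ2⟩ := hsub Mx hRM hne2
    haveI := Fintype.ofFinite (R.subgroupOf Mx)
    have hζmem : ζ ∈ principalBlock M Mx := by
      refine mem_of_kc hM (h.subgroup hRM)
        ((mapIrr_mem_principal_iff (Subgroup.subgroupOfEquivOfLe hRM).symm).2 hθ) (η := ζ)
        (fun n => ?_) hζ2
      obtain ⟨r, rfl⟩ := (Subgroup.subgroupOfEquivOfLe hRM).symm.surjective n
      rw [BrauerPairs.mapIrr_apply]
      exact hζ1 r r.2 _
    have hlt : Mx.index < R.index := by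
      have h1 := Subgroup.relIndex_mul_index hRM
      have h2 : 1 < R.relIndex Mx := Nat.one_lt_iff_ne_zero_and_ne_one.2
        ⟨fun e => by rw [e, zero_mul] at h1; exact Subgroup.index_ne_zero_of_finite h1.symm,
          fun e => hne1 (le_antisymm hRM (Subgroup.relIndex_eq_one.1 e))⟩
      rw [← h1]
      exact lt_mul_of_one_lt_left (Nat.pos_of_ne_zero Subgroup.index_ne_zero_of_finite) h2
    have hyp : Hyp p Mx P := ⟨hMn, h.pgroup, h.le.trans hRM, h.sylow,
      eq_top_iff.2 (h.sup.ge.trans (sup_le_sup_right hRM _))⟩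
    obtain ⟨η, hη1, hη2⟩ := IH Mx.index (hlt.trans_le hm) le_rfl hyp ζ hζmem
    exact ⟨η, fun n => (hη1 ⟨n, hRM n.2⟩).trans (hζ1 n n.2 _), hη2⟩
  push Not at hint
  by_cases hcyc : IsCyclic (G ⧸ R)
  · -- cyclic quotient
    obtain ⟨χ, hχ⟩ := Char.exists_irr_over R θ.2
    obtain ⟨ψ, hsb, hψ⟩ := exists_sameBlock_trivial_on hM R hθ hχ
    obtain ⟨ψ', hψ', hψe⟩ := Char.exists_irr_deflation ψ.2 R hψ
    haveI := hcyc
    have hqc : ∀ a b : G ⧸ R, a * b = b * a := fun a b =>
      IsCyclic.isMulCommutative.is_comm.comm a b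
    have hψ1 : (ψ : G → ℂ) 1 = 1 := by
      rw [← hψe 1, QuotientGroup.mk_one]
      exact Ito.apply_one_of_abelian hqc hψ'
    obtain ⟨l, hl⟩ := Char.exists_hom_of_degree_one (Char.isCharacter_of_isIrr ψ.2) hψ1
    let χ' : IrrCharacter G := ⟨_, Char.isIrrCharacter_linear_mul χ.2 l⁻¹⟩
    have hlR : ∀ n : R, l n = 1 := fun n => Units.ext (by rw [← hl, hψ n n.2, hψ1]; rfl)
    have hmem : χ' ∈ principalBlock M G := by
      refine (sameBlock_iff (χ := oneIrr G) (ψ := χ')).2 fun g => ?_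
      have hint' : ((l g)⁻¹ : ℂˣ).1 ∈ locRing M := by
        have := irr_mem_locRing (M := M) ⟨_, Char.isIrrCharacter_linear l⁻¹⟩ g
        simpa using this
      have h1 : centralChar (χ' : G → ℂ) g =
          ((l g)⁻¹ : ℂˣ).1 * centralChar (χ : G → ℂ) g := by
        simp only [centralChar, χ', MonoidHom.inv_apply, map_one, inv_one, Units.val_one, one_mul]
        ring
      rw [h1, redC_mul hint' (centralChar_mem_locRing χ g), sameBlock_iff.1 hsb g,
        ← redC_mul hint' (centralChar_mem_locRing ψ g)]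
      congr 1
      simp only [centralChar, oneIrr_apply, hl g, hψ1]
      field_simp
      simp [mul_comm]
    have hres : ∀ n : R, (χ' : G → ℂ) n = (χ : G → ℂ) n := fun n => by
      show ((l⁻¹) (n : G) : ℂ) * _ = _
      rw [MonoidHom.inv_apply, hlR n, inv_one, Units.val_one, one_mul]
    have hover : classInner (fun n : R => (χ' : G → ℂ) n) (θ : R → ℂ) ≠ 0 := by
      rwa [show (fun n : R => (χ' : G → ℂ) n) = fun n : R => (χ : G → ℂ) n from funext hres]
    have hkc := kc_of_mem hM h.sylow hmem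
    refine ⟨χ', ?_, hkc⟩
    set T := Char.inertia R (θ : R → ℂ) with hT
    have hRT : R ≤ T := Char.le_inertia R (Char.isClassFunction_of_isIrr θ.2)
    have hTn : T.Normal := by
      rw [← Subgroup.comap_map_eq_self (f := QuotientGroup.mk' R) (H := T) (by rwa [QuotientGroup.ker_mk'])]
      have : (T.map (QuotientGroup.mk' R)).Normal :=
        ⟨fun n hn g => by rw [hqc g n, mul_inv_cancel_right]; exact hn⟩
      infer_instance
    by_cases hTtop : T = ⊤
    · have hinv : ∀ g : G, Char.conjChar R g (θ : R → ℂ) = θ := fun g =>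
        Char.mem_inertia R |>.1 (hTtop ▸ Subgroup.mem_top g : g ∈ T)
      obtain ⟨η, hη, hηr⟩ := CharClifford.extends_of_cyclic θ.2 hinv hcyc
      obtain ⟨β, hβ, hβR, he⟩ := CharClifford.gallagher_exists R θ.2
        (Char.isCharacter_of_isIrr hη) hηr χ'.2 hover
      obtain ⟨β', hβ', hβe⟩ := Char.exists_irr_deflation hβ R fun n hn => hβR ⟨n, hn⟩
      have hβ1 : β 1 = 1 := by
        rw [← hβe 1, QuotientGroup.mk_one]
        exact Ito.apply_one_of_abelian hqc hβ'
      intro n
      rw [congrFun he n, Pi.mul_apply, hβR n, hβ1, one_mul, hηr]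
    · exfalso
      have hTR : T = R := by
        by_contra hne
        exact hTtop (hint T hTn hRT (Ne.symm hne))
      have hind := Char.isIrrCharacter_indFun R θ.2 hTR
      have he : (χ' : G → ℂ) = indFun R (θ : R → ℂ) := by
        by_contra hne
        apply hover
        have h5 := Char.classInner_irr_ne χ'.2 hind hne
        rwa [Char.classInner_indFun_right R _ (Char.isClassFunction_of_isIrr χ'.2)] at h5
      obtain ⟨g, hg⟩ : ∃ g, g ∉ R := by
        by_contra! hall
        exact hTtop (top_le_iff.1 (((Subgroup.eq_top_iff' R).2 hall).ge.trans hRT))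
      obtain ⟨k, hkC, hreg, hgk⟩ := h.exists_rep g
      have hkR : k ∉ R := fun hk => hg (by
        have := mul_mem hk (R.inv_mem hgk)
        rwa [mul_inv_rev, inv_inv, mul_inv_cancel_left] at this)
      obtain ⟨-, h2⟩ := hkc k hkC hreg
      rw [he, Char.indFun_apply_of_not_mem R _ hkR, zero_div, redC_zero] at h2
      exact zero_ne_one h2
  · -- simple noncyclic quotient
    haveI : Nontrivial (G ⧸ R) := by
      by_contra hnt
      rw [not_nontrivial_iff_subsingleton] at hnt
      exact hcyc inferInstance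
    haveI : IsSimpleGroup (G ⧸ R) := ⟨fun K hK => by
      by_cases hK0 : K = ⊥
      · exact Or.inl hK0
      refine Or.inr ?_
      haveI := hK
      have hle : R ≤ K.comap (QuotientGroup.mk' R) := fun r hr => by
        rw [Subgroup.mem_comap, QuotientGroup.mk'_apply, (QuotientGroup.eq_one_iff r).2 hr]
        exact one_mem K
      have hne : R ≠ K.comap (QuotientGroup.mk' R) := by
        intro he
        apply hK0
        rw [← Subgroup.map_comap_eq_self_of_surjective (QuotientGroup.mk'_surjective R) K, ← he]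
        exact QuotientGroup.map_mk'_self R
      have := hint _ inferInstance hle hne
      rw [← Subgroup.map_comap_eq_self_of_surjective (QuotientGroup.mk'_surjective R) K, this,
        Subgroup.map_top_of_surjective _ (QuotientGroup.mk'_surjective R)]⟩
    have hone : ∀ g : G, R ⊔ Subgroup.zpowers g ≠ ⊤ := by
      intro g htop
      apply hcyc
      refine ⟨⟨(g : G ⧸ R), fun y => ?_⟩⟩
      obtain ⟨y, rfl⟩ := QuotientGroup.mk'_surjective R y
      obtain ⟨r, hr, z, ⟨i, rfl⟩, rfl⟩ :=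
        Subgroup.mem_sup_of_normal_left.1 (htop.ge (Subgroup.mem_top y))
      refine ⟨i, ?_⟩
      simp [(QuotientGroup.eq_one_iff r).2 hr]
    choose E hE1 hE2 using hsub
    -- uniqueness inside the proper subgroups
    have huniq : ∀ (H : Subgroup G) (hRH : R ≤ H) (hne : H ≠ ⊤) (φ : H → ℂ), IsCharacter H φ →
        (∀ (n : G) (hn : n ∈ R) (hn' : n ∈ H), φ ⟨n, hn'⟩ = (θ : R → ℂ) ⟨n, hn⟩) →
        KC M p (P.subgroupOf H) φ → φ = (E H hRH hne : H → ℂ) := by
      intro H hRH hne φ hφ hφr hφk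
      haveI := Fintype.ofFinite (R.subgroupOf H)
      set θ' := BrauerPairs.mapIrr (Subgroup.subgroupOfEquivOfLe hRH).symm θ with hθ'
      have hres : ∀ (f : H → ℂ), (∀ (n : G) (hn : n ∈ R) (hn' : n ∈ H),
          f ⟨n, hn'⟩ = (θ : R → ℂ) ⟨n, hn⟩) →
          ∀ n : R.subgroupOf H, f n = (θ' : R.subgroupOf H → ℂ) n := by
        intro f hf n
        obtain ⟨r, rfl⟩ := (Subgroup.subgroupOfEquivOfLe hRH).symm.surjective n
        rw [hθ', BrauerPairs.mapIrr_apply]
        exact hf r r.2 _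
      have hirr : IsIrrCharacter H φ := isIrr_of_pullback (R.subgroupOf H).subtype hφ (by
        rw [show (fun n : R.subgroupOf H => φ ((R.subgroupOf H).subtype n)) =
          (θ' : R.subgroupOf H → ℂ) from funext (hres φ hφr)]
        exact θ'.2)
      exact ext_unique hM (h.subgroup hRH) θ'.2 hirr (E H hRH hne).2 (hres φ hφr)
        (hres _ (hE1 H hRH hne)) hφk (hE2 H hRH hne)
    have hcent : ∀ (H : Subgroup G) (k : H),
        k ∈ Subgroup.centralizer (P.subgroupOf H : Set H) → P ≤ H →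
          (k : G) ∈ Subgroup.centralizer (P : Set G) := by
      intro H k hk hPH
      rw [Subgroup.mem_centralizer_iff]
      intro y hy
      exact congrArg Subtype.val
        (Subgroup.mem_centralizer_iff.1 hk ⟨y, hPH hy⟩ (Subgroup.mem_subgroupOf.2 hy))
    have hcompat : ∀ (H₁ H₂ : Subgroup G) (h1 : R ≤ H₁) (hne1 : H₁ ≠ ⊤) (h12 : H₁ ≤ H₂)
        (hne2 : H₂ ≠ ⊤) (x : H₁),
        (E H₂ (h1.trans h12) hne2 : H₂ → ℂ) (Subgroup.inclusion h12 x) =
          (E H₁ h1 hne1 : H₁ → ℂ) x := by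
      intro H₁ H₂ h1 hne1 h12 hne2 x
      refine congrFun (huniq H₁ h1 hne1
        (fun y => (E H₂ (h1.trans h12) hne2 : H₂ → ℂ) (Subgroup.inclusion h12 y))
        (Char.isCharacter_comp (Char.isCharacter_of_isIrr (E H₂ (h1.trans h12) hne2).2) _)
        (fun n hn hn' => hE1 H₂ (h1.trans h12) hne2 n hn _) (fun k hk hreg => ?_)) x
      simp only [map_one]
      refine hE2 H₂ (h1.trans h12) hne2 (Subgroup.inclusion h12 k)
        (Subgroup.mem_centralizer_iff.2 fun y hy => Subtype.ext ?_) ?_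
      · exact Subgroup.mem_centralizer_iff.1 (hcent H₁ k hk (h.le.trans h1)) y
          (Subgroup.mem_subgroupOf.1 hy)
      · rwa [← Subgroup.orderOf_coe, Subgroup.coe_inclusion, Subgroup.orderOf_coe]
    have hinvθ : ∀ g : G, Char.conjChar R g (θ : R → ℂ) = θ := by
      intro g
      funext n
      have hg : g ∈ R ⊔ Subgroup.zpowers g := Subgroup.mem_sup_right (Subgroup.mem_zpowers g)
      have hn : (n : G) ∈ R ⊔ Subgroup.zpowers g := Subgroup.mem_sup_left n.2
      rw [Char.conjChar_apply, ← hE1 _ le_sup_left (hone g) _ _ (mul_mem (mul_mem hg hn) (inv_mem hg)),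
        ← hE1 _ le_sup_left (hone g) _ n.2 hn]
      exact Char.isClassFunction_of_isIrr (E _ le_sup_left (hone g)).2 ⟨n, hn⟩ ⟨g, hg⟩
    set F : G → ℂ := fun g => (E _ (le_sup_left : R ≤ R ⊔ Subgroup.zpowers g) (hone g) :
      ↥(R ⊔ Subgroup.zpowers g) → ℂ) ⟨g, Subgroup.mem_sup_right (Subgroup.mem_zpowers g)⟩ with hF
    have hFH : ∀ (H : Subgroup G) (hRH : R ≤ H) (hne : H ≠ ⊤) (x : H),
        F x = (E H hRH hne : H → ℂ) x := by
      intro H hRH hne x
      exact (hcompat (R ⊔ Subgroup.zpowers (x : G)) H le_sup_left (hone _)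
        (sup_le hRH (Subgroup.zpowers_le.2 x.2)) hne _).symm
    have hFR : ∀ n : R, F n = (θ : R → ℂ) n := fun n =>
      hE1 _ le_sup_left (hone _) n n.2 _
    have hFc : IsClassFunction G F := by
      intro g c
      obtain ⟨d, hd, n, hn, hdn⟩ : ∃ d ∈ Subgroup.centralizer (P : Set G), ∃ n ∈ R, c = d * n := by
        obtain ⟨r, hr, d, hd, hrd⟩ := Subgroup.mem_sup_of_normal_left.1 (h.sup.ge (Subgroup.mem_top c))
        exact ⟨d, hd, d⁻¹ * r * d, by simpa using h.normal.conj_mem r hr d⁻¹,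
          by rw [← hrd]; group⟩
      set H := R ⊔ Subgroup.zpowers g with hH
      set H' := R ⊔ Subgroup.zpowers (c * g * c⁻¹) with hH'
      have hmap : H.map (MulAut.conj c).toMonoidHom = H' := by
        rw [hH, hH', Subgroup.map_sup, MonoidHom.map_zpowers]
        congr 1
        refine Subgroup.eq_of_le_of_card_ge ?_ (le_of_eq (card_map_conj R c).symm)
        rintro _ ⟨r, hr, rfl⟩
        exact h.normal.conj_mem r hr c
      let f : H →* H' := ((MulEquiv.subgroupMap (MulAut.conj c) H).trans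
        (MulEquiv.subgroupCongr hmap)).toMonoidHom
      have hf : ∀ x : H, (f x : G) = c * x * c⁻¹ := fun x => rfl
      have key := huniq H le_sup_left (hone g) (fun x => (E H' le_sup_left (hone _) : H' → ℂ) (f x))
        (Char.isCharacter_comp (Char.isCharacter_of_isIrr (E H' le_sup_left (hone _)).2) f)
        (fun m hm hm' => ?_) (fun k hk hreg => ?_)
      · have h6 := congrFun key ⟨g, Subgroup.mem_sup_right (Subgroup.mem_zpowers g)⟩
        exact h6
      · rw [show f ⟨m, hm'⟩ = ⟨c * m * c⁻¹, Subgroup.mem_sup_left (h.normal.conj_mem m hm c)⟩ from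
          Subtype.ext (hf _), hE1 H' le_sup_left (hone _) _ (h.normal.conj_mem m hm c) _]
        exact congrFun (hinvθ c) ⟨m, hm⟩
      · have hkC : (k : G) ∈ Subgroup.centralizer (P : Set G) :=
          hcent H k hk (h.le.trans le_sup_left)
        have hn' : d * n * d⁻¹ ∈ H' := Subgroup.mem_sup_left (h.normal.conj_mem n hn d)
        have hk' : d * k * d⁻¹ ∈ H' := by
          have h7 := mul_mem (mul_mem (inv_mem hn') (f k).2) hn'
          rwa [hf, hdn, show (d * n * d⁻¹)⁻¹ * (d * n * k * (d * n)⁻¹) * (d * n * d⁻¹) =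
            d * k * d⁻¹ by group] at h7
        have he : f k = ⟨d * n * d⁻¹, hn'⟩ * ⟨d * k * d⁻¹, hk'⟩ * (⟨d * n * d⁻¹, hn'⟩ : H')⁻¹ := by
          refine Subtype.ext ?_
          rw [hf, hdn]
          simp only [Subgroup.coe_mul, Subgroup.coe_inv]
          group
        simp only [map_one]
        rw [he, Char.isClassFunction_of_isIrr (E H' le_sup_left (hone _)).2]
        refine hE2 H' le_sup_left (hone _) _
          (Subgroup.mem_centralizer_iff.2 fun y hy => Subtype.ext ?_) ?_
        · exact Subgroup.mem_centralizer_iff.1 (mul_mem (mul_mem hd hkC) (inv_mem hd)) y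
            (Subgroup.mem_subgroupOf.1 hy)
        · rwa [Subgroup.orderOf_mk, orderOf_conj_eq, Subgroup.orderOf_coe]
    -- some extension
    obtain ⟨η₀, hη₀, hη₀r⟩ := CharClifford.extends_of_local θ.2 hinvθ fun q hq => by
      haveI := Fact.mk hq
      let Q : Sylow q G := default
      have hne : R ⊔ (Q : Subgroup G) ≠ ⊤ := by
        obtain ⟨j, hj⟩ := IsPGroup.iff_card.1 Q.2
        exact sup_elementary_ne_top hcyc hq ⟨1, Subgroup.one_mem _,
          by rw [orderOf_one]; exact Nat.coprime_one_left q,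
          j, by rw [Subgroup.zpowers_one_eq_bot, Subgroup.index_bot]; exact hj⟩
      exact ⟨_, le_sup_left, (E _ le_sup_left hne : _ → ℂ),
        ((Nat.Prime.coprime_iff_not_dvd hq).2 fun hd =>
          Q.not_dvd_index (hd.trans (Subgroup.index_dvd_of_le le_sup_right))).symm,
        (E _ le_sup_left hne).2, fun n => hE1 _ le_sup_left hne n n.2 _⟩
    have hnormeq : ∀ g : G, ‖F g‖ = ‖η₀ g‖ := by
      intro g
      set H := R ⊔ Subgroup.zpowers g with hH
      haveI := Fintype.ofFinite (R.subgroupOf H)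
      haveI := Fintype.ofFinite H
      haveI := (h.subgroup (le_sup_left : R ≤ H)).normal
      set θ' := BrauerPairs.mapIrr (Subgroup.subgroupOfEquivOfLe (le_sup_left : R ≤ H)).symm θ with hθ'
      have hres : ∀ (f : H → ℂ), (∀ (n : G) (hn : n ∈ R) (hn' : n ∈ H),
          f ⟨n, hn'⟩ = (θ : R → ℂ) ⟨n, hn⟩) →
          ∀ n : R.subgroupOf H, f n = (θ' : R.subgroupOf H → ℂ) n := by
        intro f hf n
        obtain ⟨r, rfl⟩ := (Subgroup.subgroupOfEquivOfLe (le_sup_left : R ≤ H)).symm.surjective n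
        rw [hθ', BrauerPairs.mapIrr_apply]
        exact hf r r.2 _
      have h8 : ∀ (n : G) (hn : n ∈ R) (hn' : n ∈ H),
          (fun x : H => η₀ x) ⟨n, hn'⟩ = (θ : R → ℂ) ⟨n, hn⟩ := fun n hn _ => hη₀r ⟨n, hn⟩
      have hirr : IsIrrCharacter H (fun x : H => η₀ x) := isIrr_of_pullback (R.subgroupOf H).subtype
        (Char.isCharacter_restrict (Char.isCharacter_of_isIrr hη₀) H) (by
          rw [show (fun n : R.subgroupOf H => η₀ ((R.subgroupOf H).subtype n : H)) =
            (θ' : R.subgroupOf H → ℂ) from funext (hres (fun x : H => η₀ x) h8)]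
          exact θ'.2)
      obtain ⟨l, -, hle⟩ := CharClifford.extension_unique_mul_linear (R.subgroupOf H) θ'.2 hirr
        (hres (fun x : H => η₀ x) h8) (E H le_sup_left (hone g)).2 (hres _ (hE1 H le_sup_left (hone g)))
      show ‖(E H le_sup_left (hone g) : H → ℂ) _‖ = _
      rw [hle, norm_mul, ((Units.coeHom ℂ).comp l).isOfFinOrder
        (isOfFinOrder_of_finite _) |>.norm_eq_one |> fun e => (by simpa using e :
          ‖(l ⟨g, Subgroup.mem_sup_right (Subgroup.mem_zpowers g)⟩ : ℂ)‖ = 1), one_mul]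
    have hgen : IsGeneralizedCharacter G F := by
      refine Char.brauer_characterization hFc fun U q hq hU => ?_
      have hne := sup_elementary_ne_top hcyc hq hU
      refine ⟨fun e : U => F e, 0, ?_, Char.isCharacter_zero, by simp⟩
      rw [show (fun e : U => F e) = fun e : U => (E (R ⊔ U) le_sup_left hne : ↥(R ⊔ U) → ℂ)
        (Subgroup.inclusion le_sup_right e) from
          funext fun e => hFH (R ⊔ U) le_sup_left hne (Subgroup.inclusion le_sup_right e)]
      exact Char.isCharacter_comp (Char.isCharacter_of_isIrr (E (R ⊔ U) le_sup_left hne).2) _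
    have hnorm : classInner F F = 1 := by
      rw [← Char.classInner_irr_self hη₀]
      simp only [classInner, Complex.mul_conj']
      congr 1
      exact Finset.sum_congr rfl fun g _ => by rw [hnormeq g]
    have hirr : IsIrrCharacter G F := by
      rcases CharClifford.irr_or_neg_of_norm_one hgen hnorm with hi | hi
      · exact hi
      · exfalso
        have h9 : ((-F) 1) = -((θ : R → ℂ) 1) := by
          rw [Pi.neg_apply, ← hFR 1]
          rfl
        have hd1 := irr_one_eq_natCast ⟨_, hi⟩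
        simp only [h9, irr_one_eq_natCast θ] at hd1
        have : ((charDegree (-F) + charDegree (θ : R → ℂ) : ℕ) : ℂ) = 0 := by
          push_cast; linear_combination -hd1
        have h10 := charDegree_pos θ
        rw [Nat.cast_eq_zero] at this
        omega
    refine ⟨⟨F, hirr⟩, hFR, fun k hk hreg => ?_⟩
    show F k / F 1 ∈ locRing M ∧ redC M (F k / F 1) = 1
    set H := R ⊔ Subgroup.zpowers k with hH
    have hkH : k ∈ H := Subgroup.mem_sup_right (Subgroup.mem_zpowers k)
    have h1H : F 1 = (E H le_sup_left (hone k) : H → ℂ) 1 := hFH H le_sup_left (hone k) 1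
    rw [show F k = (E H le_sup_left (hone k) : H → ℂ) ⟨k, hkH⟩ from rfl, h1H]
    refine hE2 H le_sup_left (hone k) ⟨k, hkH⟩
      (Subgroup.mem_centralizer_iff.2 fun y hy => Subtype.ext ?_) (by rwa [Subgroup.orderOf_mk])
    exact Subgroup.mem_centralizer_iff.1 hk y (Subgroup.mem_subgroupOf.1 hy)

/-- Restriction is a bijection between the principal blocks. -/
theorem restriction_bijective (hM : IsPModular p M) {R P : Subgroup G} [Fintype R]
    (h : Hyp p R P) :
    (∀ χ ∈ principalBlock M G, ∃ θ ∈ principalBlock M R, ∀ n : R, (χ : G → ℂ) n = (θ : R → ℂ) n) ∧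
      ∀ θ ∈ principalBlock M R, ∃! χ : IrrCharacter G,
        χ ∈ principalBlock M G ∧ ∀ n : R, (χ : G → ℂ) n = (θ : R → ℂ) n := by
  haveI := h.normal
  haveI := Fintype.ofFinite G
  have hex := fun θ hθ => exists_ext_aux hM R.index le_rfl h θ hθ
  refine ⟨fun χ hχ => ?_, fun θ hθ => ?_⟩
  · obtain ⟨θ, hθ⟩ := exists_constituent_restrict R χ
    have hθb := constituent_mem_principal hχ hθ
    obtain ⟨η, hηr, hηk⟩ := hex θ hθb
    obtain ⟨β, hβ, hβR, he⟩ := CharClifford.gallagher_exists R θ.2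
      (Char.isCharacter_of_isIrr η.2) hηr χ.2 hθ
    have h1 := eq_one_of_kc hM h ⟨β, hβ⟩ (fun n hn => hβR ⟨n, hn⟩)
      (kc_div hM ⟨β, hβ⟩ (not_dvd_degree_of_trivial h ⟨β, hβ⟩ fun n hn => hβR ⟨n, hn⟩) he
        (kc_of_mem hM h.sylow hχ) hηk)
    refine ⟨θ, hθb, fun n => ?_⟩
    rw [congrFun he n, Pi.mul_apply, show β = fun _ => 1 from congrArg Subtype.val h1, one_mul,
      hηr]
  · obtain ⟨η, hηr, hηk⟩ := hex θ hθ
    refine ⟨η, ⟨mem_of_kc hM h hθ hηr hηk, hηr⟩, ?_⟩
    rintro χ ⟨hχ, hχr⟩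
    exact Subtype.ext (ext_unique hM h θ.2 χ.2 η.2 hχr hηr (kc_of_mem hM h.sylow hχ) hηk)

end Cfsg.Agent.Lib.Block.PrincipalRestrict
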