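import Cfsg.Agent.Lib.BrauerPairs.Descent
import Cfsg.Agent.Lib.Block.NormalP
import Cfsg.Agent.Lib.Block.Principal
import Cfsg.Agent.Lib.LocalFusion.PSolvable
import Cfsg.Agent.Lib.PLength.Basic
import Cfsg.Agent.Lib.Char2.Basic
import Cfsg.Agent.Lib.CharKernel
import Cfsg.Agent.Lib.Hall.Basic

/-! The principal block of a `p`-solvable group. -/

set_option autoImplicit false

namespace Cfsg.Agent.Lib.Block

open Cfsg
open Cfsg.Agent.Lib.BrauerPairs

universe u

variable {p : ℕ} {M : Ideal AlgInt} [M.IsPrime] {G : Type u} [Group G] [Finite G]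

/-- A group with a self-centralizing normal `p`-subgroup has a single block. -/
theorem eq_principal_of_centralizer_le (hM : IsPModular p M) {Q : Subgroup G} [Q.Normal]
    (hQ : IsPGroup p Q) (hC : Subgroup.centralizer (Q : Set G) ≤ Q) {B : Set (IrrCharacter G)}
    (hB : IsPBlock M B) : B = principalBlock M G := by
  classical
  haveI : Fact p.Prime := ⟨hM.1⟩
  set C := Subgroup.centralizer (Q : Set G) with hCdef
  haveI := Fintype.ofFinite (⊥ : Subgroup C)
  have hC1 : ∀ ξ η : IrrCharacter C, SameBlock M (ξ : C → ℂ) (η : C → ℂ) := by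
    intro ξ η
    obtain ⟨k, hk⟩ := IsPGroup.iff_card.mp (hQ.to_le hC)
    have hbot : ∀ χ : IrrCharacter C, classInner (fun n : (⊥ : Subgroup C) => (χ : C → ℂ) n)
        (fun _ => (1 : ℂ)) ≠ 0 := fun χ => constituent_one_of_trivial_on ⊥ χ fun n hn => by
      rw [Subgroup.mem_bot.1 hn]
    exact sameBlock_of_constituent ⊥ hM (k := k) (by rw [Subgroup.index_bot, hk])
      (θ := ⟨fun _ => 1, Char.isIrrCharacter_one⟩) (θ' := ⟨fun _ => 1, Char.isIrrCharacter_one⟩)
      (hbot ξ) (hbot η) (sameBlock_refl _)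
  have key : ∀ B' : Set (IrrCharacter G), IsPBlock M B' → bar M B' = 1 := by
    intro B' hB'
    have hbr : br Q (bar M B') = bar M B' :=
      br_eq_self_of_normal hM hQ (isClassCoeff_bar B') (isIdempotentElem_bar hB')
    have hgood := good_bar hB' Q
    have hne : toSub C (bar M B') ≠ 0 := fun h0 => bar_ne_zero hB' (by
      rw [← hbr, br_eq_emb, h0, map_zero])
    obtain ⟨e, he, he'⟩ := exists_block_of_ne_zero hgood.isClassCoeff (hgood.idem_toSub hM hQ) hne
    have hall : ∀ ξ : IrrCharacter C, ξ ∈ e := by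
      intro ξ
      obtain ⟨η, hη⟩ := isPBlock_nonempty he
      obtain ⟨η₀, rfl⟩ := id he
      exact sameBlock_trans (show SameBlock M (η₀ : C → ℂ) (η : C → ℂ) from hη) (hC1 η ξ)
    have huniv : bar M e = 1 := by
      conv_rhs => rw [← sum_bar (M := M) (H := C)]
      rw [Finset.sum_eq_single e]
      · intro e' he'' hne'
        obtain ⟨ξ, hξ⟩ := isPBlock_nonempty (mem_blocks.1 he'')
        exact absurd (eq_of_mem_of_mem he (mem_blocks.1 he'') (hall ξ) hξ).symm hne'
      · exact fun h => absurd (mem_blocks.2 he) h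
    rw [huniv, one_mul] at he'
    rw [← hbr, br_eq_emb, he', map_one]
  exact bar_inj hB isPBlock_principalBlock (by rw [key B hB, key _ isPBlock_principalBlock])

/-- The principal block of a `p`-solvable group consists of the characters trivial on the
`p'`-core. -/
theorem mem_principalBlock_iff_trivial (hM : IsPModular p M) (hsolv : IsPSolvable p G)
    (χ : IrrCharacter G) :
    χ ∈ principalBlock M G ↔ ∀ n ∈ pPrimeCore p G, (χ : G → ℂ) n = (χ : G → ℂ) 1 := by
  classical
  haveI : Fact p.Prime := ⟨hM.1⟩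
  haveI := Fintype.ofFinite (pPrimeCore p G)
  constructor
  · intro h n hn
    exact trivial_on_of_sameBlock _ hM (Hall.not_dvd_card_pPrimeCore hM.1)
      (show SameBlock M (oneIrr G : G → ℂ) (χ : G → ℂ) from h) (fun _ _ => rfl) hn
  · intro h
    obtain ⟨η, hη, hηe⟩ := CharKernel.exists_irr_quotient (pPrimeCore p G) χ.2 h
    have hX : IsPSolvable p (G ⧸ pPrimeCore p G) :=
      PLength.isPSolvable_map (QuotientGroup.mk'_surjective (pPrimeCore p G)) hsolv
    have hO : pPrimeCore p (G ⧸ pPrimeCore p G) = ⊥ := Char2.pPrimeCore_quotient_eq_bot p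
    have hb := eq_principal_of_centralizer_le hM (Q := pCore p (G ⧸ pPrimeCore p G)) (Hall.isPGroup_pCore p)
      (LocalFusion.centralizer_pCore_le_of_isPSolvable hX hO)
      (isPBlock_blockOf (M := M) (⟨η, hη⟩ : IrrCharacter (G ⧸ pPrimeCore p G)))
    have hmem : (⟨η, hη⟩ : IrrCharacter (G ⧸ pPrimeCore p G)) ∈ principalBlock M (G ⧸ pPrimeCore p G) := hb ▸ mem_blockOf_self _
    have hsame : SameBlock M (oneIrr (G ⧸ pPrimeCore p G) : (G ⧸ pPrimeCore p G) → ℂ) η := hmem
    show SameBlock M (oneIrr G : G → ℂ) (χ : G → ℂ)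
    refine sameBlock_iff.2 fun g => ?_
    obtain ⟨m, hm, -⟩ := centralChar_inflate (pPrimeCore p G) g
    rw [show (oneIrr G : G → ℂ) = (oneIrr (G ⧸ pPrimeCore p G) : (G ⧸ pPrimeCore p G) → ℂ) ∘ QuotientGroup.mk from rfl,
      show (χ : G → ℂ) = η ∘ QuotientGroup.mk from funext fun y => (hηe y).symm, hm, hm,
      redC_mul (nat_mem m) (centralChar_mem_locRing (oneIrr (G ⧸ pPrimeCore p G)) _),
      redC_mul (nat_mem m) (centralChar_mem_locRing ⟨η, hη⟩ _)]
    exact congrArg _ ((sameBlock_iff (χ := oneIrr (G ⧸ pPrimeCore p G)) (ψ := ⟨η, hη⟩)).1 hsame _)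

end Cfsg.Agent.Lib.Block
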